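import Cfsg.Agent.Classical.LinearBasic

/-!
Calculus of transvections `x ↦ x + (φ ⬝ x) • a` inside a subgroup of SL.
-/

set_option autoImplicit false

namespace Cfsg.Agent.RegGen

open Matrix

variable {ι F : Type*} [Fintype ι] [DecidableEq ι] [Field F] {H : Subgroup (Matrix.SpecialLinearGroup ι F)}

/-- `H` contains the transvection with vector `a` and functional `φ`. -/
def TV (H : Subgroup (Matrix.SpecialLinearGroup ι F)) (a φ : ι → F) : Prop :=
  φ ⬝ᵥ a = 0 ∧ ∃ g ∈ H, ∀ x : ι → F, (g : Matrix ι ι F) *ᵥ x = x + (φ ⬝ᵥ x) • a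

theorem TV.perp {a φ : ι → F} (h : TV H a φ) : φ ⬝ᵥ a = 0 := h.1

theorem TV.zero_left (φ : ι → F) : TV H 0 φ :=
  ⟨by simp, 1, H.one_mem, fun x => by simp⟩

theorem TV.zero_right (a : ι → F) : TV H a 0 :=
  ⟨by simp, 1, H.one_mem, fun x => by simp⟩

theorem TV.smul_left {a φ : ι → F} (r : F) (h : TV H a (r • φ)) (hp : φ ⬝ᵥ a = 0) : TV H (r • a) φ := by
  obtain ⟨-, g, hg, hx⟩ := h
  refine ⟨by rw [dotProduct_smul, hp, smul_zero], g, hg, fun x => ?_⟩
  rw [hx, smul_dotProduct, smul_smul, smul_eq_mul, mul_comm]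

theorem TV.smul_right {a φ : ι → F} (r : F) (h : TV H (r • a) φ) (hp : φ ⬝ᵥ a = 0) : TV H a (r • φ) := by
  obtain ⟨-, g, hg, hx⟩ := h
  refine ⟨by rw [smul_dotProduct, hp, smul_zero], g, hg, fun x => ?_⟩
  rw [hx, smul_dotProduct, smul_smul, smul_eq_mul, mul_comm]

theorem TV.neg_left {a φ : ι → F} (h : TV H a φ) : TV H (-a) φ := by
  obtain ⟨hp, g, hg, hx⟩ := h
  refine ⟨by rw [dotProduct_neg, hp, neg_zero], g⁻¹, H.inv_mem hg, fun x => ?_⟩
  have h1 := hx (x + (φ ⬝ᵥ x) • -a)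
  have h2 : φ ⬝ᵥ (x + (φ ⬝ᵥ x) • -a) = φ ⬝ᵥ x := by
    rw [dotProduct_add, dotProduct_smul, dotProduct_neg, hp, neg_zero, smul_zero, add_zero]
  rw [h2, smul_neg, neg_add_cancel_right] at h1
  have h3 := congrArg (fun y => (g⁻¹ : Matrix.SpecialLinearGroup ι F).1 *ᵥ y) h1
  simp only [mulVec_mulVec, ← Matrix.SpecialLinearGroup.coe_mul, inv_mul_cancel, Matrix.SpecialLinearGroup.coe_one,
    one_mulVec] at h3
  rw [← h3, smul_neg]

theorem TV.neg_right {a φ : ι → F} (h : TV H a φ) : TV H a (-φ) := by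
  have := h.neg_left
  rw [show -a = (-1 : F) • a by simp] at this
  have h2 := this.smul_right (-1) h.1
  rwa [neg_one_smul] at h2

theorem TV.add_left {a b φ : ι → F} (h : TV H a φ) (h' : TV H b φ) : TV H (a + b) φ := by
  obtain ⟨hp, g, hg, hx⟩ := h
  obtain ⟨hp', g', hg', hx'⟩ := h'
  refine ⟨by rw [dotProduct_add, hp, hp', add_zero], g * g', H.mul_mem hg hg', fun x => ?_⟩
  rw [Matrix.SpecialLinearGroup.coe_mul, ← mulVec_mulVec, hx', hx, dotProduct_add, dotProduct_smul, hp', smul_zero,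
    add_zero, smul_add, add_assoc, add_comm ((φ ⬝ᵥ x) • b)]

theorem TV.add_right {a φ ψ : ι → F} (h : TV H a φ) (h' : TV H a ψ) : TV H a (φ + ψ) := by
  obtain ⟨hp, g, hg, hx⟩ := h
  obtain ⟨hp', g', hg', hx'⟩ := h'
  refine ⟨by rw [add_dotProduct, hp, hp', add_zero], g * g', H.mul_mem hg hg', fun x => ?_⟩
  rw [Matrix.SpecialLinearGroup.coe_mul, ← mulVec_mulVec, hx', hx, dotProduct_add, dotProduct_smul, hp, smul_zero,
    add_zero, add_dotProduct, add_smul, add_assoc, add_comm ((ψ ⬝ᵥ x) • a)]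

theorem TV.sum_right {κ : Type*} {a : ι → F} (s : Finset κ) (f : κ → ι → F) (h : ∀ k ∈ s, TV H a (f k)) :
    TV H a (∑ k ∈ s, f k) := by
  classical
  induction s using Finset.induction with
  | empty => simpa using TV.zero_right a
  | insert k s hk ih =>
    rw [Finset.sum_insert hk]
    exact (h k (Finset.mem_insert_self _ _)).add_right (ih fun j hj => h j (Finset.mem_insert_of_mem hj))

/-- Conjugation by `g` moves the vector by `g` and the functional by `g⁻¹`. -/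
theorem TV.conj {a φ : ι → F} (h : TV H a φ) {g : Matrix.SpecialLinearGroup ι F} (hg : g ∈ H) :
    TV H (g.1 *ᵥ a) (φ ᵥ* (g⁻¹ : Matrix.SpecialLinearGroup ι F).1) := by
  obtain ⟨hp, t, ht, hx⟩ := h
  refine ⟨?_, g * t * g⁻¹, H.mul_mem (H.mul_mem hg ht) (H.inv_mem hg), fun x => ?_⟩
  · rw [← dotProduct_mulVec, mulVec_mulVec, ← Matrix.SpecialLinearGroup.coe_mul, inv_mul_cancel,
      Matrix.SpecialLinearGroup.coe_one, one_mulVec, hp]
  · rw [Matrix.SpecialLinearGroup.coe_mul, Matrix.SpecialLinearGroup.coe_mul, ← mulVec_mulVec, ← mulVec_mulVec, hx,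
      mulVec_add, mulVec_smul, mulVec_mulVec, ← Matrix.SpecialLinearGroup.coe_mul, mul_inv_cancel,
      Matrix.SpecialLinearGroup.coe_one, one_mulVec, dotProduct_mulVec]

/-- The commutator of two transvections when `φ` kills `b`. -/
theorem TV.comm {a φ b ψ : ι → F} (h : TV H a φ) (h' : TV H b ψ) (hb : φ ⬝ᵥ b = 0) :
    TV H (-(ψ ⬝ᵥ a) • b) φ := by
  obtain ⟨hp, g, hg, hx⟩ := h
  have hgb : (g : Matrix ι ι F) *ᵥ b = b := by rw [hx, hb, zero_smul, add_zero]
  obtain ⟨-, g', hg', hx'⟩ := h'.conj hg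
  have hψ : ψ ᵥ* (g⁻¹ : Matrix.SpecialLinearGroup ι F).1 = ψ - (ψ ⬝ᵥ a) • φ := by
    have key : ∀ x, ((g⁻¹ : Matrix.SpecialLinearGroup ι F).1) *ᵥ x = x - (φ ⬝ᵥ x) • a := by
      intro x
      have h1 := hx (x - (φ ⬝ᵥ x) • a)
      rw [dotProduct_sub, dotProduct_smul, hp, smul_zero, sub_zero, sub_add_cancel] at h1
      have h2 := congrArg (fun y => (g⁻¹ : Matrix.SpecialLinearGroup ι F).1 *ᵥ y) h1
      simp only [mulVec_mulVec, ← Matrix.SpecialLinearGroup.coe_mul, inv_mul_cancel,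
        Matrix.SpecialLinearGroup.coe_one, one_mulVec] at h2
      exact h2.symm
    funext i
    have h3 : (ψ ᵥ* (g⁻¹ : Matrix.SpecialLinearGroup ι F).1) ⬝ᵥ Pi.single i 1 = (ψ - (ψ ⬝ᵥ a) • φ) ⬝ᵥ Pi.single i 1 := by
      rw [← dotProduct_mulVec, key, dotProduct_sub, dotProduct_smul, sub_dotProduct, smul_dotProduct, smul_eq_mul,
        smul_eq_mul, mul_comm]
    simpa [dotProduct_single_one] using h3
  have h4 := h'.conj hg
  rw [hgb, hψ] at h4
  have h5 := h4.add_right h'.neg_right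
  rw [show ψ - (ψ ⬝ᵥ a) • φ + -ψ = (-(ψ ⬝ᵥ a)) • φ by rw [neg_smul]; abel] at h5
  exact h5.smul_left _ hb

theorem TV.congr {a a' φ φ' : ι → F} (h : TV H a φ) (ha : a = a') (hφ : φ = φ') : TV H a' φ' := ha ▸ hφ ▸ h

/-- `H` contains every transvection along `y`. -/
def Pt (H : Subgroup (Matrix.SpecialLinearGroup ι F)) (y : ι → F) : Prop :=
  ∀ φ : ι → F, φ ⬝ᵥ y = 0 → TV H y φ

theorem Pt.smul {y : ι → F} (h : Pt H y) (r : F) : Pt H (r • y) := by
  intro φ hφ
  by_cases hr : r = 0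
  · subst hr; rw [zero_smul]; exact TV.zero_left φ
  have hy : φ ⬝ᵥ y = 0 := by
    rw [dotProduct_smul, smul_eq_mul] at hφ
    exact (mul_eq_zero.1 hφ).resolve_left hr
  exact (h (r • φ) (by rw [smul_dotProduct, hy, smul_zero])).smul_left r hy

theorem Pt.map {y : ι → F} (h : Pt H y) {g : Matrix.SpecialLinearGroup ι F} (hg : g ∈ H) : Pt H (g.1 *ᵥ y) := by
  intro φ hφ
  have := (h (φ ᵥ* g.1) (by rw [← dotProduct_mulVec]; exact hφ)).conj hg
  rwa [vecMul_vecMul, ← Matrix.SpecialLinearGroup.coe_mul, mul_inv_cancel, Matrix.SpecialLinearGroup.coe_one,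
    vecMul_one] at this

/-- Full transvection groups along all coordinate vectors generate SL. -/
theorem eq_top_of_pt (h : ∀ i : ι, Pt H (Pi.single i 1)) : H = ⊤ := by
  refine Cfsg.Agent.Classical.sl_eq_top_of_transvection H fun i j hij c => ?_
  obtain ⟨-, g, hg, hx⟩ := h i (c • Pi.single j 1) (by simp [hij])
  have : g = Matrix.SpecialLinearGroup.transvection hij c := by
    refine Cfsg.Agent.Classical.sl_ext_mulVec fun v => ?_
    rw [hx, Matrix.SpecialLinearGroup.transvection_coe, Cfsg.Agent.Classical.tv_mulVec]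
    simp [← Pi.single_smul']
  exact this ▸ hg

theorem tv_of_transvection {i j : ι} (hij : i ≠ j) {c : F}
    (h : Matrix.SpecialLinearGroup.transvection hij c ∈ H) : TV H (c • Pi.single i 1) (Pi.single j 1) := by
  refine ⟨by simp [hij.symm], _, h, fun v => ?_⟩
  rw [Matrix.SpecialLinearGroup.transvection_coe, Cfsg.Agent.Classical.tv_mulVec]
  simp [← Pi.single_smul', mul_comm]

end Cfsg.Agent.RegGen
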