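import Cfsg.Agent.RegGen.Linear

/-!
SL_3 of a finite field is generated by two conjugates of a regular unipotent element.
-/

set_option autoImplicit false

namespace Cfsg.Agent.RegGen

open Matrix

variable {F : Type*} [Field F]

/-- The lower regular unipotent of SL_3. -/
def vThree (F : Type*) [Field F] : Matrix.SpecialLinearGroup (Fin 3) F :=
  ⟨!![1, 0, 0; 1, 1, 0; 0, 1, 1], by simp [Matrix.det_fin_three]⟩

theorem regU_three : (regU 3 F).1 = !![1, 1, 0; 0, 1, 1; 0, 0, 1] := by
  ext i j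
  fin_cases i <;> fin_cases j <;> simp [regU, shiftUp]

theorem vThree_inv : ((vThree F)⁻¹ : Matrix.SpecialLinearGroup (Fin 3) F).1 = !![1, 0, 0; -1, 1, 0; 1, -1, 1] := by
  have e : vThree F * ⟨!![1, 0, 0; -1, 1, 0; 1, -1, 1], by simp [Matrix.det_fin_three]⟩ = 1 := by
    refine Subtype.ext ?_
    show (vThree F).1 * _ = (1 : Matrix (Fin 3) (Fin 3) F)
    ext i j
    fin_cases i <;> fin_cases j <;> simp [vThree, Matrix.mul_apply, Fin.sum_univ_three]
  rw [inv_eq_of_mul_eq_one_right e]

/-- A signed reversal conjugating the two standard regular unipotents. -/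
def revThree (F : Type*) [Field F] : Matrix.SpecialLinearGroup (Fin 3) F :=
  ⟨!![0, 0, -1; 0, -1, 0; -1, 0, 0], by simp [Matrix.det_fin_three]⟩

theorem revThree_conj : revThree F * regU 3 F * (revThree F)⁻¹ = vThree F := by
  rw [mul_inv_eq_iff_eq_mul]
  refine Subtype.ext ?_
  rw [Matrix.SpecialLinearGroup.coe_mul, Matrix.SpecialLinearGroup.coe_mul, regU_three]
  ext i j
  fin_cases i <;> fin_cases j <;> simp [revThree, vThree, Matrix.mul_apply, Fin.sum_univ_three]

theorem regular_conj {n : ℕ} (hn : 1 ≤ n) (h : Matrix.SpecialLinearGroup (Fin n) F) :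
    IsNilpotent ((h * regU n F * h⁻¹).1 - 1) ∧ ((h * regU n F * h⁻¹).1 - 1) ^ (n - 1) ≠ 0 := by
  have hh : h.1 * (h⁻¹).1 = 1 := by
    rw [← Matrix.SpecialLinearGroup.coe_mul, mul_inv_cancel, Matrix.SpecialLinearGroup.coe_one]
  have hh' : (h⁻¹).1 * h.1 = 1 := by
    rw [← Matrix.SpecialLinearGroup.coe_mul, inv_mul_cancel, Matrix.SpecialLinearGroup.coe_one]
  have e : ∀ k : ℕ, ((h * regU n F * h⁻¹).1 - 1) ^ k = h.1 * ((regU n F).1 - 1) ^ k * (h⁻¹).1 := by
    have e1 : (h * regU n F * h⁻¹).1 - 1 = h.1 * ((regU n F).1 - 1) * (h⁻¹).1 := by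
      rw [Matrix.SpecialLinearGroup.coe_mul, Matrix.SpecialLinearGroup.coe_mul, mul_sub, sub_mul, mul_one, hh]
    intro k
    induction k with
    | zero => rw [pow_zero, pow_zero, mul_one, hh]
    | succ k ih =>
      rw [pow_succ, ih, e1, pow_succ]
      calc h.1 * ((regU n F).1 - 1) ^ k * (h⁻¹).1 * (h.1 * ((regU n F).1 - 1) * (h⁻¹).1)
          = h.1 * ((regU n F).1 - 1) ^ k * ((h⁻¹).1 * h.1) * ((regU n F).1 - 1) * (h⁻¹).1 := by
            simp only [mul_assoc]
        _ = h.1 * (((regU n F).1 - 1) ^ k * ((regU n F).1 - 1)) * (h⁻¹).1 := by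
            rw [hh']; simp only [mul_assoc, mul_one, one_mul]
  obtain ⟨k, hk⟩ := regU_isNilpotent (n := n) (F := F)
  refine ⟨⟨k, by rw [e, hk, mul_zero, zero_mul]⟩, fun hz => regU_pow_ne (F := F) hn ?_⟩
  rw [e] at hz
  have := congrArg (fun M => (h⁻¹).1 * M * h.1) hz
  simp only [← mul_assoc, hh', one_mul, mul_zero, zero_mul] at this
  rwa [mul_assoc, hh', mul_one] at this

/-- The lower standard element is in the required form. -/
theorem eq_top_three (H : Subgroup (Matrix.SpecialLinearGroup (Fin 3) F)) (hv : vThree F ∈ H)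
    (hS : ∀ r : F, TV H (r • Pi.single 0 1) (Pi.single 2 1)) : H = ⊤ := by
  refine eq_top_of_scalars H le_rfl (vThree F) hv (fun _ => 1) (fun _ => one_pow 2) (fun x i => ?_) hS
  fin_cases i <;> simp [vThree, Matrix.mulVec, dotProduct, Fin.sum_univ_three] <;> ring

/-- A subset of a finite field containing `σ` and closed under the ring operations is everything, when `σ` has
large order. -/
theorem subring_eq_top [Fintype F] (M : Subring F) {σ γ : F} (hq : 5 ≤ Fintype.card F) (hσ : σ ∈ M)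
    (hγ0 : γ ≠ 0) (hγ : ∀ k : ℕ, γ ^ k = 1 → (Fintype.card F - 1) ∣ k) (h3 : σ ^ 1 = (γ ^ 3)⁻¹) : M = ⊤ := by
  classical
  have hinv : ∀ x ∈ M, x⁻¹ ∈ M := by
    intro x hx
    rcases eq_or_ne x 0 with rfl | hx0
    · rw [_root_.inv_zero]; exact M.zero_mem
    have h1 := FiniteField.pow_card_sub_one_eq_one x hx0
    have h2 : x * x ^ (Fintype.card F - 2) = 1 := by
      rw [← pow_succ', show Fintype.card F - 2 + 1 = Fintype.card F - 1 by omega, h1]
    rw [inv_eq_of_mul_eq_one_right h2]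
    exact M.pow_mem hx _
  let K : Subfield F := { M with inv_mem' := hinv }
  by_contra hne
  have hpow : Fintype.card F = Fintype.card K ^ Module.finrank K F := Module.card_eq_pow_finrank
  have hm : 2 ≤ Module.finrank K F := by
    by_contra h
    have hpos : 0 < Module.finrank K F := Module.finrank_pos
    rw [show Module.finrank K F = 1 by omega, pow_one] at hpow
    refine hne ((Subring.eq_top_iff' M).2 fun x => ?_)
    have hb : Function.Bijective (Subtype.val : K → F) :=
      (Fintype.bijective_iff_injective_and_card _).2 ⟨Subtype.val_injective, hpow.symm⟩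
    obtain ⟨y, rfl⟩ := hb.2 x
    exact y.2
  set q' := Fintype.card K with hq'
  have hq'2 : 2 ≤ q' := Fintype.one_lt_card
  have hσK : (⟨σ, hσ⟩ : K) ≠ 0 := fun h => by
    have : σ = 0 := congrArg Subtype.val h
    rw [pow_one, this, eq_comm, inv_eq_zero] at h3
    exact pow_ne_zero 3 hγ0 h3
  have h1 := FiniteField.pow_card_sub_one_eq_one (⟨σ, hσ⟩ : K) hσK
  have h2 : σ ^ (q' - 1) = 1 := congrArg Subtype.val h1
  rw [pow_one] at h3
  rw [h3, inv_pow, inv_eq_one, ← pow_mul] at h2
  have h4 := Nat.le_of_dvd (by omega) (hγ _ h2)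
  have h5 : q' * q' ≤ Fintype.card F := by
    rw [hpow, ← pow_two]
    exact Nat.pow_le_pow_right (by omega) hm
  rcases (show q' = 2 ∨ 3 ≤ q' by omega) with h6 | h6
  · rw [h6] at hpow h4
    have h7 : 2 ∣ Fintype.card F := by rw [hpow]; exact dvd_pow_self 2 (by omega)
    omega
  · have := Nat.mul_le_mul_right q' h6
    omega

/-- The block element. -/
def cThree (l : F) : Matrix (Fin 3) (Fin 3) F :=
  !![l, (l ^ 2 + 2 / l - 3) / l, -(l - 1) ^ 3 / l ^ 2; 0, 1 / l ^ 2, 0; 0, 0, l]

theorem det_cThree {l : F} (hl : l ≠ 0) : (cThree l).det = 1 := by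
  simp [cThree, Matrix.det_fin_three]
  field_simp

/-- Generation for a parameter `l` with `l³ ≠ 1`. -/
theorem three_generate_general [Fintype F] (l : F) (hl : l ≠ 0) (hl3 : l ^ 3 ≠ 1)
    (hM : ∀ R : AddSubgroup F, (∃ r ∈ R, r ≠ 0) → ∀ m1 : F, m1 = (l - 1) ^ 4 * (2 * l ^ 2 + 2 * l - 1) / l ^ 6 →
      (∀ r ∈ R, r * m1 ∈ R) → (∀ r ∈ R, r * (m1 * (1 / l ^ 3 + 1)) ∈ R) → R = ⊤) :
    ∃ h g : Matrix.SpecialLinearGroup (Fin 3) F,
      Subgroup.closure ({h * regU 3 F * h⁻¹, g * (h * regU 3 F * h⁻¹) * g⁻¹} : Set (Matrix.SpecialLinearGroup (Fin 3) F)) = ⊤ := by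
  classical
  set r : F := (l ^ 2 + 2 / l - 3) / l with hr
  set c : F := -(l - 1) ^ 3 / l ^ 2 with hc
  set s : F := 1 / l ^ 2 with hs
  set C : Matrix.SpecialLinearGroup (Fin 3) F := ⟨cThree l, det_cThree hl⟩ with hC
  have hCm : C.1 = !![l, r, c; 0, s, 0; 0, 0, l] := rfl
  set u : Matrix.SpecialLinearGroup (Fin 3) F := (vThree F)⁻¹ * C with hu
  have hum : u.1 = !![l, r, c; -l, s - r, -c; l, r - s, c + l] := by
    rw [hu, Matrix.SpecialLinearGroup.coe_mul, vThree_inv, hCm]
    ext i j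
    fin_cases i <;> fin_cases j <;> simp [Matrix.mul_apply, Fin.sum_univ_three] <;> ring
  -- the Krylov basis
  set a0 : F := ((l - 1) * (l - 1) + r * -l + c * l) / l with ha0
  set a1 : F := (-l * (l - 1) + (s - r - 1) * -l + -c * l) / l with ha1
  set a2 : F := (l * (l - 1) + (r - s) * -l + (c + l - 1) * l) / l with ha2
  have hdet : (!![a0, (l - 1) / l, 1 / l; a1, -1, 0; a2, 1, 0] : Matrix (Fin 3) (Fin 3) F).det = 1 := by
    simp [Matrix.det_fin_three, ha0, ha1, ha2, hr, hc, hs]
    field_simp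
    ring
  set G : Matrix.SpecialLinearGroup (Fin 3) F := ⟨!![a0, (l - 1) / l, 1 / l; a1, -1, 0; a2, 1, 0], hdet⟩ with hG
  have hconj : u = G * regU 3 F * G⁻¹ := by
    rw [eq_mul_inv_iff_mul_eq]
    refine Subtype.ext ?_
    show u.1 * G.1 = G.1 * (regU 3 F).1
    rw [hum, regU_three]
    ext i j
    fin_cases i <;> fin_cases j <;>
      simp [hG, Matrix.mul_apply, Fin.sum_univ_three, ha0, ha1, ha2, hr, hc, hs] <;> field_simp <;> ring
  refine ⟨G, revThree F * G⁻¹, ?_⟩
  have hgv : revThree F * G⁻¹ * (G * regU 3 F * G⁻¹) * (revThree F * G⁻¹)⁻¹ = vThree F := by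
    rw [← revThree_conj]; group
  rw [hgv, ← hconj]
  set H := Subgroup.closure ({u, vThree F} : Set (Matrix.SpecialLinearGroup (Fin 3) F)) with hH
  have hv : vThree F ∈ H := Subgroup.subset_closure (by simp)
  have hu' : u ∈ H := Subgroup.subset_closure (by simp)
  have hCH : C ∈ H := by
    have := H.mul_mem hv hu'
    rwa [hu, mul_inv_cancel_left] at this
  have hsl : s - l ≠ 0 := by
    rw [hs, sub_ne_zero, Ne, div_eq_iff (pow_ne_zero 2 hl)]
    intro h; exact hl3 (by linear_combination -h)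
  set q1 := Fintype.card F - 1 with hq1
  have hpow : ∀ x : F, x ≠ 0 → x ^ q1 = 1 := fun x hx => FiniteField.pow_card_sub_one_eq_one x hx
  have hCk : ∀ (k : ℕ) (x : Fin 3 → F), C.1 ^ k *ᵥ x =
      ![l ^ k * x 0 + r * ((s ^ k - l ^ k) / (s - l)) * x 1 + (k : F) * l ^ k * (c / l) * x 2, s ^ k * x 1,
        l ^ k * x 2] := by
    intro k
    induction k with
    | zero => intro x; funext i; fin_cases i <;> simp
    | succ k ih =>
      intro x
      rw [pow_succ', ← mulVec_mulVec, ih, hCm]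
      funext i
      fin_cases i <;> simp [Matrix.mulVec, dotProduct, Fin.sum_univ_three, pow_succ] <;> field_simp <;> ring
  have hq1F : (q1 : F) = -1 := by
    have h2 := Fintype.one_lt_card (α := F)
    rw [hq1, Nat.cast_sub (by omega), FiniteField.cast_card_eq_zero, Nat.cast_one, zero_sub]
  set t : F := -(c / l) with ht
  have ht0 : t ≠ 0 := by
    rw [ht, neg_ne_zero, hc, div_div]
    refine div_ne_zero (neg_ne_zero.2 (pow_ne_zero 3 (sub_ne_zero.2 ?_))) (mul_ne_zero (pow_ne_zero 2 hl) hl)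
    intro h; exact hl3 (by rw [h, one_pow])
  set e0 : Fin 3 → F := Pi.single 0 1 with he0
  set el : Fin 3 → F := Pi.single 2 1 with hel
  have hX : TV H (t • e0) el := by
    refine ⟨by simp [he0, hel], C ^ q1, H.pow_mem hCH _, fun x => ?_⟩
    rw [Matrix.SpecialLinearGroup.coe_pow, hCk, hpow l hl, hpow s (by rw [hs]; exact div_ne_zero one_ne_zero (pow_ne_zero 2 hl)), hq1F]
    funext i
    fin_cases i <;> simp [he0, hel, ht] <;> ring
  set b := (vThree F).1 *ᵥ e0 with hb
  have hb' : b = ![1, 1, 0] := by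
    funext i
    fin_cases i <;> simp [hb, he0, vThree]
  have hX' := hX.conj hv
  have hψ : el ᵥ* ((vThree F)⁻¹).1 = ![1, -1, 1] := by
    rw [vThree_inv]
    funext i
    fin_cases i <;> simp [hel, Matrix.vecMul, dotProduct, Fin.sum_univ_three]
  rw [hψ, mulVec_smul, ← hb] at hX'
  set R : AddSubgroup F :=
    { carrier := {r | TV H (r • b) el}
      zero_mem' := by show TV H ((0 : F) • b) el; rw [zero_smul]; exact TV.zero_left _
      add_mem' := fun {r t} hr ht => by show TV H ((r + t) • b) el; rw [add_smul]; exact TV.add_left hr ht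
      neg_mem' := fun {r} hr => by show TV H ((-r) • b) el; rw [neg_smul]; exact TV.neg_left hr } with hR
  have hperp : el ⬝ᵥ (t • b) = 0 := by simp [hel, hb']
  have hr0 : -(t * t) ∈ R := by
    show TV H ((-(t * t)) • b) el
    refine (hX.comm hX' hperp).congr ?_ rfl
    rw [smul_smul]
    congr 1
    simp [he0, dotProduct, Fin.sum_univ_three]
  have hstep : ∀ (k : ℕ), ∀ x ∈ R,
      x * (-t * ((s ^ k - l ^ k) / l ^ k * (r / (s - l) - 1))) ∈ R := by
    intro k x hx
    have h1 := (show TV H (x • b) el from hx).conj (H.pow_mem hCH k)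
    have hlk : l ^ k ≠ 0 := pow_ne_zero k hl
    have hfun : el ᵥ* ((C ^ k)⁻¹ : Matrix.SpecialLinearGroup (Fin 3) F).1 = (l ^ k)⁻¹ • el := by
      have h2 : el ᵥ* (C ^ k : Matrix.SpecialLinearGroup (Fin 3) F).1 = l ^ k • el := by
        funext j
        have h3 : (el ᵥ* (C ^ k : Matrix.SpecialLinearGroup (Fin 3) F).1) ⬝ᵥ Pi.single j 1 =
            (l ^ k • el) ⬝ᵥ Pi.single j 1 := by
          rw [← dotProduct_mulVec, Matrix.SpecialLinearGroup.coe_pow, hCk, smul_dotProduct]
          simp [hel, dotProduct, Fin.sum_univ_three]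
        simpa [dotProduct_single_one] using h3
      have h3 := congrArg (fun y => y ᵥ* ((C ^ k)⁻¹ : Matrix.SpecialLinearGroup (Fin 3) F).1) h2
      simp only [vecMul_vecMul, ← Matrix.SpecialLinearGroup.coe_mul, mul_inv_cancel,
        Matrix.SpecialLinearGroup.coe_one, vecMul_one, smul_vecMul] at h3
      conv_rhs => rw [h3, smul_smul, inv_mul_cancel₀ hlk, one_smul]
    rw [hfun] at h1
    set z := (C ^ k).1 *ᵥ (x • b) with hz
    have hz' : z = ![x * (l ^ k + r * ((s ^ k - l ^ k) / (s - l))), x * s ^ k, 0] := by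
      rw [hz, Matrix.SpecialLinearGroup.coe_pow, hCk]
      funext i
      fin_cases i <;> simp [hb'] <;> ring
    have h2 := h1.smul_left ((l ^ k)⁻¹) (by simp [hel, hz'])
    show TV H ((x * (-t * ((s ^ k - l ^ k) / l ^ k * (r / (s - l) - 1)))) • b) el
    refine (h2.comm hX' hperp).congr ?_ rfl
    rw [smul_smul]
    congr 1
    rw [hz']
    simp [dotProduct, Fin.sum_univ_three]
    field_simp
    ring
  have hm1 := hstep 1
  have hm2 := hstep 2
  have hfac : -t * ((s ^ 1 - l ^ 1) / l ^ 1 * (r / (s - l) - 1)) = (l - 1) ^ 4 * (2 * l ^ 2 + 2 * l - 1) / l ^ 6 ∨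
      -t * ((s ^ 1 - l ^ 1) / l ^ 1 * (r / (s - l) - 1)) = -((l - 1) ^ 4 * (2 * l ^ 2 + 2 * l - 1) / l ^ 6) := by
    have e : (s ^ 1 - l ^ 1) / l ^ 1 * (r / (s - l) - 1) = (r - s + l) / l := by
      rw [pow_one, pow_one]
      field_simp
      ring
    rw [e]
    right
    rw [ht, hr, hc, hs]
    field_simp
    ring
  have h2eq : -t * ((s ^ 2 - l ^ 2) / l ^ 2 * (r / (s - l) - 1)) =
      -t * ((s ^ 1 - l ^ 1) / l ^ 1 * (r / (s - l) - 1)) * (1 / l ^ 3 + 1) := by
    rw [hs]
    field_simp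
    ring
  have htop : R = ⊤ := by
    refine hM R ⟨_, hr0, neg_ne_zero.2 (mul_ne_zero ht0 ht0)⟩ _ rfl (fun x hx => ?_) (fun x hx => ?_)
    · rcases hfac with e | e
      · rw [← e]; exact hm1 x hx
      · have := R.neg_mem (hm1 x hx)
        rw [e, mul_neg, neg_neg] at this
        exact this
    · have h4 := hm2 x hx
      rw [h2eq] at h4
      rcases hfac with e | e
      · rwa [e] at h4
      · rw [e] at h4
        have := R.neg_mem h4
        rw [neg_mul, mul_neg, neg_neg] at this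
        exact this
  have hall : ∀ x : F, TV H (x • b) el := fun x => by
    show x ∈ R
    rw [htop]; exact AddSubgroup.mem_top x
  have hΦ1 : ∀ x : F, TV H (x • e0) ![0, 1, 1] := by
    intro x
    refine ((hall x).conj (H.inv_mem hv)).congr ?_ ?_
    · rw [mulVec_smul, hb, mulVec_mulVec, ← Matrix.SpecialLinearGroup.coe_mul, inv_mul_cancel,
        Matrix.SpecialLinearGroup.coe_one, one_mulVec]
    · rw [inv_inv]
      funext i
      fin_cases i <;> simp [hel, vThree, Matrix.vecMul, dotProduct, Fin.sum_univ_three]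
  have hΦ2 : ∀ x : F, TV H (x • e0) ![0, s, l] := by
    intro x
    have hinv : (C⁻¹ : Matrix.SpecialLinearGroup (Fin 3) F).1 *ᵥ e0 = l⁻¹ • e0 := by
      have h2 : C.1 *ᵥ e0 = l • e0 := by
        funext i
        fin_cases i <;> simp [hCm, he0]
      have h3 := congrArg (fun y => (C⁻¹ : Matrix.SpecialLinearGroup (Fin 3) F).1 *ᵥ y) h2
      simp only [mulVec_mulVec, ← Matrix.SpecialLinearGroup.coe_mul, inv_mul_cancel,
        Matrix.SpecialLinearGroup.coe_one, one_mulVec, mulVec_smul] at h3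
      conv_rhs => rw [h3, smul_smul, inv_mul_cancel₀ hl, one_smul]
    refine ((hΦ1 (l * x)).conj (H.inv_mem hCH)).congr ?_ ?_
    · rw [mulVec_smul, hinv, smul_smul, mul_comm l x, mul_assoc, mul_inv_cancel₀ hl, mul_one]
    · rw [inv_inv]
      funext i
      fin_cases i <;> simp [hCm, Matrix.vecMul, dotProduct, Fin.sum_univ_three]
  have hΦ3 : ∀ x : F, TV H (x • e0) (Pi.single 1 1) := by
    intro x
    have h3 := ((hΦ2 (x / (s - l))).add_right ((hΦ1 (l * (x / (s - l)))).neg_right.congr rfl rfl |> fun h =>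
      show TV H ((x / (s - l)) • e0) (l • -![0, 1, 1]) from by
        rw [← smul_smul] at h
        exact h.smul_right l (by simp [he0, dotProduct, Fin.sum_univ_three])))
    have h4 : ![0, s, l] + l • -![0, 1, 1] = (s - l) • (Pi.single 1 1 : Fin 3 → F) := by
      funext i
      fin_cases i <;> simp <;> ring
    rw [h4] at h3
    refine (h3.smul_left (s - l) (by simp [he0, dotProduct, Fin.sum_univ_three])).congr ?_ rfl
    rw [smul_smul, mul_div_cancel₀ _ hsl]
  refine eq_top_three H hv fun x => ?_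
  refine ((hΦ1 x).add_right (hΦ3 x).neg_right).congr rfl ?_
  funext i
  fin_cases i <;> simp

theorem three_generate_two [Fintype F] (h : Fintype.card F = 2) :
    ∃ g : Matrix.SpecialLinearGroup (Fin 3) F,
      Subgroup.closure ({regU 3 F, g * regU 3 F * g⁻¹} : Set (Matrix.SpecialLinearGroup (Fin 3) F)) = ⊤ := by
  classical
  have h2 : (2 : F) = 0 := by
    have := FiniteField.cast_card_eq_zero F
    rwa [h] at this
  refine ⟨revThree F, ?_⟩
  rw [revThree_conj]
  set H := Subgroup.closure ({regU 3 F, vThree F} : Set (Matrix.SpecialLinearGroup (Fin 3) F))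
  refine eq_top_three H (Subgroup.subset_closure (by simp)) fun x => ?_
  have huu : regU 3 F * regU 3 F ∈ H :=
    H.mul_mem (Subgroup.subset_closure (by simp)) (Subgroup.subset_closure (by simp))
  have hone : TV H ((1 : F) • Pi.single 0 1) (Pi.single 2 1) := by
    refine ⟨by simp, _, huu, fun y => ?_⟩
    rw [Matrix.SpecialLinearGroup.coe_mul, regU_three]
    funext i
    fin_cases i <;> simp [Matrix.mulVec, dotProduct, Fin.sum_univ_three, Matrix.mul_apply] <;> grind
  have hx : x = 0 ∨ x = 1 := by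
    by_contra hh
    push_neg at hh
    have hsub : ({0, 1, x} : Finset F).card ≤ Fintype.card F := Finset.card_le_univ _
    rw [Finset.card_insert_of_notMem (by simp [hh.1.symm]), Finset.card_insert_of_notMem (by simp [hh.2.symm]),
      Finset.card_singleton, h] at hsub
    omega
  rcases hx with rfl | rfl
  · rw [zero_smul]; exact TV.zero_left _
  · exact hone

set_option maxHeartbeats 1600000 in
theorem three_generate_four [Fintype F] (h : Fintype.card F = 4) :
    ∃ a g : Matrix.SpecialLinearGroup (Fin 3) F,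
      Subgroup.closure ({a * regU 3 F * a⁻¹, g * (a * regU 3 F * a⁻¹) * g⁻¹} :
        Set (Matrix.SpecialLinearGroup (Fin 3) F)) = ⊤ := by
  classical
  obtain ⟨w, hw0, hw1⟩ : ∃ w : F, w ≠ 0 ∧ w ≠ 1 := by
    by_contra hh
    push_neg at hh
    have hsub : (Finset.univ : Finset F) ⊆ {0, 1} := fun x _ => by
      by_cases hx : x = 0
      · simp [hx]
      · simp [hh x hx]
    have := (Finset.card_le_card hsub).trans Finset.card_le_two
    rw [Finset.card_univ, h] at this
    omega
  have hq : w ^ 3 = 1 := by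
    have := FiniteField.pow_card_sub_one_eq_one w hw0
    rwa [h] at this
  have hw : w ^ 2 + w + 1 = 0 := by
    have h' : (w - 1) * (w ^ 2 + w + 1) = 0 := by linear_combination hq
    exact (mul_eq_zero.1 h').resolve_left (sub_ne_zero.2 hw1)
  have h2 : (2 : F) = 0 := by
    have := FiniteField.cast_card_eq_zero F
    rw [h] at this
    exact mul_self_eq_zero.1 (by linear_combination this)
  set z := w + 1 with hz
  set a : Matrix.SpecialLinearGroup (Fin 3) F := ⟨!![0, 1, 1; z, w, z; z, 0, z],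
    by simp [Matrix.det_fin_three]; grind⟩ with ha
  set u := a * regU 3 F * a⁻¹ with hu
  have hainv : (a⁻¹ : Matrix.SpecialLinearGroup (Fin 3) F).1 = !![1, z, 1; 0, z, z; 1, z, z] := by
    have e : a * ⟨!![1, z, 1; 0, z, z; 1, z, z], by simp [Matrix.det_fin_three]; grind⟩ = 1 := by
      refine Subtype.ext ?_
      show a.1 * _ = (1 : Matrix (Fin 3) (Fin 3) F)
      ext i j
      fin_cases i <;> fin_cases j <;> simp [ha, Matrix.mul_apply, Fin.sum_univ_three] <;> grind
    rw [inv_eq_of_mul_eq_one_right e]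
  have hum : u.1 = !![0, z, z; w, w, z; 0, w, z] := by
    rw [hu, Matrix.SpecialLinearGroup.coe_mul, Matrix.SpecialLinearGroup.coe_mul, regU_three, hainv]
    ext i j
    fin_cases i <;> fin_cases j <;> simp [ha, Matrix.mul_apply, Fin.sum_univ_three] <;> grind
  have huinv : (u⁻¹ : Matrix.SpecialLinearGroup (Fin 3) F).1 = !![0, z, z; 1, 0, 1; z, 0, 1] := by
    have e : u * ⟨!![0, z, z; 1, 0, 1; z, 0, 1], by simp [Matrix.det_fin_three]; grind⟩ = 1 := by
      refine Subtype.ext ?_
      show u.1 * _ = (1 : Matrix (Fin 3) (Fin 3) F)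
      rw [hum]
      ext i j
      fin_cases i <;> fin_cases j <;> simp [Matrix.mul_apply, Fin.sum_univ_three] <;> grind
    rw [inv_eq_of_mul_eq_one_right e]
  refine ⟨a, revThree F * a⁻¹, ?_⟩
  rw [show revThree F * a⁻¹ * (a * regU 3 F * a⁻¹) * (revThree F * a⁻¹)⁻¹ = vThree F by
    rw [← revThree_conj]; group]
  set H := Subgroup.closure ({u, vThree F} : Set (Matrix.SpecialLinearGroup (Fin 3) F))
  have hv : vThree F ∈ H := Subgroup.subset_closure (by simp)
  have hu' : u ∈ H := Subgroup.subset_closure (by simp)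
  have hvi : ((vThree F)⁻¹ : Matrix.SpecialLinearGroup (Fin 3) F).1 = !![1, 0, 0; 1, 1, 0; 1, 1, 1] := by
    rw [vThree_inv]
    ext i j
    fin_cases i <;> fin_cases j <;> simp <;> grind
  have W1 : TV H ((1 : F) • Pi.single 0 1) (Pi.single 2 1) := by
    refine ⟨by simp, u⁻¹ * (vThree F)⁻¹ * u * u * vThree F * u,
      H.mul_mem (H.mul_mem (H.mul_mem (H.mul_mem (H.mul_mem (H.inv_mem hu') (H.inv_mem hv)) hu') hu') hv) hu', fun y => ?_⟩
    simp only [Matrix.SpecialLinearGroup.coe_mul, hum, huinv, hvi]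
    have e1 : !![0, z, z; 1, 0, 1; z, 0, 1] * !![1, 0, 0; 1, 1, 0; 1, 1, (1 : F)] = !![0, 0, z; 0, 1, 1; w, 1, 1] := by
      ext i j
      fin_cases i <;> fin_cases j <;> simp [Matrix.mul_apply, Fin.sum_univ_three] <;> grind
    have e2 : !![0, 0, z; 0, 1, 1; w, 1, 1] * !![0, z, z; w, w, z; 0, w, z] = !![0, 1, w; w, 0, 0; w, 1, (1 : F)] := by
      ext i j
      fin_cases i <;> fin_cases j <;> simp [Matrix.mul_apply, Fin.sum_univ_three] <;> grind
    have e3 : !![0, 1, w; w, 0, 0; w, 1, (1 : F)] * !![0, z, z; w, w, z; 0, w, z] = !![w, 1, w; 0, 1, 1; w, 1, (1 : F)] := by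
      ext i j
      fin_cases i <;> fin_cases j <;> simp [Matrix.mul_apply, Fin.sum_univ_three] <;> grind
    have e4 : !![w, 1, w; 0, 1, 1; w, 1, (1 : F)] * (vThree F).1 = !![z, z, w; 1, 0, 1; z, 0, (1 : F)] := by
      ext i j
      fin_cases i <;> fin_cases j <;> simp [vThree, Matrix.mul_apply, Fin.sum_univ_three] <;> grind
    have e5 : !![z, z, w; 1, 0, 1; z, 0, (1 : F)] * !![0, z, z; w, w, z; 0, w, z] = !![1, 0, 1; 0, 1, 0; 0, 0, (1 : F)] := by
      ext i j
      fin_cases i <;> fin_cases j <;> simp [Matrix.mul_apply, Fin.sum_univ_three] <;> grind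
    rw [e1, e2, e3, e4, e5]
    funext i
    fin_cases i <;> simp [Matrix.mulVec, dotProduct, Fin.sum_univ_three]
  have W2 : TV H (w • Pi.single 0 1) (Pi.single 2 1) := by
    refine ⟨by simp, vThree F * u * vThree F * vThree F * u⁻¹ * (vThree F)⁻¹,
      H.mul_mem (H.mul_mem (H.mul_mem (H.mul_mem (H.mul_mem hv hu') hv) hv) (H.inv_mem hu')) (H.inv_mem hv), fun y => ?_⟩
    simp only [Matrix.SpecialLinearGroup.coe_mul, hum, huinv, hvi]
    have e1 : (vThree F).1 * !![0, z, z; w, w, z; 0, w, z] = !![0, z, z; w, 1, 0; w, 0, 0] := by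
      ext i j
      fin_cases i <;> fin_cases j <;> simp [vThree, Matrix.mul_apply, Fin.sum_univ_three] <;> grind
    have e2 : !![0, z, z; w, 1, 0; w, 0, 0] * (vThree F).1 = !![z, 0, z; z, 1, 0; w, 0, 0] := by
      ext i j
      fin_cases i <;> fin_cases j <;> simp [vThree, Matrix.mul_apply, Fin.sum_univ_three] <;> grind
    have e3 : !![z, 0, z; z, 1, 0; w, 0, 0] * (vThree F).1 = !![z, z, z; w, 1, 0; w, 0, 0] := by
      ext i j
      fin_cases i <;> fin_cases j <;> simp [vThree, Matrix.mul_apply, Fin.sum_univ_three] <;> grind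
    have e4 : !![z, z, z; w, 1, 0; w, 0, 0] * !![0, z, z; 1, 0, 1; z, 0, 1] = !![1, w, w; 1, 1, 0; 0, 1, 1] := by
      ext i j
      fin_cases i <;> fin_cases j <;> simp [Matrix.mul_apply, Fin.sum_univ_three] <;> grind
    have e5 : !![1, w, w; 1, 1, 0; 0, 1, 1] * !![1, 0, 0; 1, 1, 0; 1, 1, (1 : F)] = !![1, 0, w; 0, 1, 0; 0, 0, 1] := by
      ext i j
      fin_cases i <;> fin_cases j <;> simp [Matrix.mul_apply, Fin.sum_univ_three] <;> grind
    rw [e1, e2, e3, e4, e5]
    funext i
    fin_cases i <;> simp [Matrix.mulVec, dotProduct, Fin.sum_univ_three, mul_comm]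
  refine eq_top_three H hv fun x => ?_
  have hx : x = 0 ∨ x = 1 ∨ x = w ∨ x = z := by
    by_contra hh
    push_neg at hh
    have hz0 : z ≠ 0 := fun e => hw1 (by grind)
    have hzw : w ≠ z := fun e => one_ne_zero (α := F) (by linear_combination -e)
    have hz1 : (1 : F) ≠ z := fun e => hw0 (by linear_combination -e)
    have hsub : ({0, 1, w, z, x} : Finset F).card ≤ Fintype.card F := Finset.card_le_univ _
    rw [Finset.card_insert_of_notMem (by simp [hw0.symm, hh.1.symm, hz0.symm]),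
      Finset.card_insert_of_notMem (by simp [hw1.symm, hh.2.1.symm, hz1]),
      Finset.card_insert_of_notMem (by simp [hzw, hh.2.2.1.symm]),
      Finset.card_insert_of_notMem (by simp [hh.2.2.2.symm]), Finset.card_singleton, h] at hsub
    omega
  rcases hx with rfl | rfl | rfl | rfl
  · rw [zero_smul]; exact TV.zero_left _
  · exact W1
  · exact W2
  · refine (W2.add_left W1).congr ?_ rfl
    rw [← add_smul]

theorem three_generate [Fintype F] :
    ∃ a g : Matrix.SpecialLinearGroup (Fin 3) F,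
      Subgroup.closure ({a * regU 3 F * a⁻¹, g * (a * regU 3 F * a⁻¹) * g⁻¹} :
        Set (Matrix.SpecialLinearGroup (Fin 3) F)) = ⊤ := by
  classical
  have hcard := Fintype.one_lt_card (α := F)
  by_cases h2 : Fintype.card F = 2
  · obtain ⟨g, hg⟩ := three_generate_two h2
    exact ⟨1, g, by simpa using hg⟩
  by_cases h4 : Fintype.card F = 4
  · exact three_generate_four h4
  obtain ⟨γ, hγ⟩ := IsCyclic.exists_generator (α := Fˣ)
  have hord : orderOf γ = Fintype.card F - 1 := by
    rw [orderOf_eq_card_of_forall_mem_zpowers hγ, Nat.card_eq_fintype_card, Fintype.card_units]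
  have hdvd : ∀ k : ℕ, (γ : F) ^ k = 1 → Fintype.card F - 1 ∣ k := by
    intro k hk
    rw [← hord]
    exact orderOf_dvd_of_pow_eq_one (Units.ext (by rw [Units.val_pow_eq_pow_val, hk, Units.val_one]))
  have h3 : (γ : F) ^ 3 ≠ 1 := fun h => by
    have h' := hdvd 3 h
    have := (Nat.dvd_prime Nat.prime_three).1 h'
    omega
  by_cases hp : (Fintype.card F).Prime
  · obtain ⟨a, g, hag⟩ := three_generate_general (γ : F) γ.ne_zero h3 (fun R hR _ _ _ _ => by
      haveI : Fact (Nat.card F).Prime := ⟨by rw [Nat.card_eq_fintype_card]; exact hp⟩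
      obtain ⟨r, hr, hr0⟩ := hR
      refine (R.eq_bot_or_eq_top_of_prime_card).resolve_left fun h => ?_
      rw [h, AddSubgroup.mem_bot] at hr
      exact hr0 hr)
    exact ⟨a, g, hag⟩
  have h5 : 5 ≤ Fintype.card F := by
    by_contra h
    have : Fintype.card F = 3 := by omega
    exact hp (by rw [this]; norm_num)
  obtain ⟨l, hl0, hl3, hlg, hpoly⟩ : ∃ l : F, l ≠ 0 ∧ l ^ 3 ≠ 1 ∧ (∀ k : ℕ, l ^ k = 1 → Fintype.card F - 1 ∣ k) ∧
      2 * l ^ 2 + 2 * l - 1 ≠ 0 := by
    by_cases hp1 : 2 * (γ : F) ^ 2 + 2 * (γ : F) - 1 = 0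
    · refine ⟨(γ : F)⁻¹, inv_ne_zero γ.ne_zero, by rw [inv_pow, Ne, inv_eq_one]; exact h3,
        fun k hk => hdvd k (by rwa [inv_pow, inv_eq_one] at hk), fun hp2 => ?_⟩
      have hg0 := γ.ne_zero
      have e2 : (γ : F) ^ 2 - 2 * (γ : F) - 2 = 0 := by
        have := congrArg (fun y => -(γ : F) ^ 2 * y) hp2
        simp only [mul_zero] at this
        rw [← this]
        field_simp
        ring
      have e3 : 3 * (2 * (γ : F) + 1) = 0 := by linear_combination hp1 - 2 * e2
      rcases mul_eq_zero.1 e3 with e | e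
      · refine h3 ?_
        have h1 : ((γ : F) - 1) ^ 2 = 0 := by linear_combination -hp1 + (γ : F) ^ 2 * e
        rw [sub_eq_zero.1 (pow_eq_zero_iff (by norm_num) |>.1 h1), one_pow]
      · have e4 : (3 : F) = 0 := by linear_combination (-2) * hp1 + (2 * (γ : F) + 1) * e
        refine h3 ?_
        have h1 : ((γ : F) - 1) ^ 2 = 0 := by linear_combination -hp1 + (γ : F) ^ 2 * e4
        rw [sub_eq_zero.1 (pow_eq_zero_iff (by norm_num) |>.1 h1), one_pow]
    · exact ⟨γ, γ.ne_zero, h3, hdvd, hp1⟩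
  obtain ⟨a, g, hag⟩ := three_generate_general l hl0 hl3 (fun R hR m1 hm1 hc1 hc2 => by
    let M : Subring F :=
      { carrier := {m | ∀ r ∈ R, r * m ∈ R}
        one_mem' := fun r hr => by rwa [mul_one]
        mul_mem' := fun {m m'} h h' r hr => by rw [← mul_assoc]; exact h' _ (h r hr)
        zero_mem' := fun r _ => by rw [mul_zero]; exact R.zero_mem
        add_mem' := fun {m m'} h h' r hr => by rw [mul_add]; exact R.add_mem (h r hr) (h' r hr)
        neg_mem' := fun {m} h r hr => by rw [mul_neg]; exact R.neg_mem (h r hr) }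
    have hm0 : m1 ≠ 0 := by
      rw [hm1]
      refine div_ne_zero (mul_ne_zero (pow_ne_zero _ (sub_ne_zero.2 ?_)) hpoly) (pow_ne_zero _ hl0)
      intro h; exact hl3 (by rw [h, one_pow])
    have hσ : 1 / l ^ 3 ∈ M := by
      have hinv : m1⁻¹ ∈ M := by
        have h1 := FiniteField.pow_card_sub_one_eq_one m1 hm0
        have h2 : m1 * m1 ^ (Fintype.card F - 2) = 1 := by
          rw [← pow_succ', show Fintype.card F - 2 + 1 = Fintype.card F - 1 by omega, h1]
        rw [inv_eq_of_mul_eq_one_right h2]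
        exact M.pow_mem hc1 _
      have := M.sub_mem (M.mul_mem hinv (show m1 * (1 / l ^ 3 + 1) ∈ M from hc2)) M.one_mem
      rwa [inv_mul_cancel_left₀ hm0, add_sub_cancel_right] at this
    have hMtop := subring_eq_top M h5 hσ hl0 hlg (by rw [pow_one, one_div])
    obtain ⟨r, hr, hr0⟩ := hR
    rw [AddSubgroup.eq_top_iff']
    intro x
    have hx : r⁻¹ * x ∈ M := hMtop ▸ Subring.mem_top _
    have := hx r hr
    rwa [mul_inv_cancel_left₀ hr0] at this)
  exact ⟨a, g, hag⟩

end Cfsg.Agent.RegGen
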