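import Cfsg.Agent.RegGen.PairKrylov

/-!
SL_n of a finite field, n ≥ 4, is generated by two regular unipotent elements.
-/

set_option autoImplicit false

namespace Cfsg.Agent.RegGen

open Matrix Polynomial

variable {F : Type*} [Field F] {d : ℕ}

/-- The middle coordinates. -/
def midv (y : Fin (d + 2) → F) : Fin d → F := fun j => ev y (j.val + 1)

theorem comp_mulVec (s : ℕ → F) (x : Fin d → F) (i : Fin d) :
    (comp d s *ᵥ x) i = if i.val = 0 then ∑ j : Fin d, s j.val * x j else x ⟨i.val - 1, by omega⟩ := by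
  simp only [mulVec, dotProduct, comp, Matrix.of_apply]
  by_cases h : i.val = 0
  · simp only [if_pos h]
  · simp only [if_neg h]
    rw [Finset.sum_eq_single (⟨i.val - 1, by omega⟩ : Fin d)]
    · rw [if_pos (by simp only; omega), one_mul]
    · intro b _ hb
      rw [if_neg (fun e => hb (Fin.ext (by simp only; omega))), zero_mul]
    · simp

variable (s : ℕ → F) (c : F)

theorem midv_pairMat (hd : 2 ≤ d) (y : Fin (d + 2) → F) : midv (pairMat d s c *ᵥ y) = comp d s *ᵥ midv y := by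
  funext j
  have hj := j.isLt
  simp only [midv]
  rw [ev_mk _ (j.val + 1) (by omega), pairMat_mulVec, comp_mulVec, if_neg (by simp only; omega)]
  by_cases h : j.val = 0
  · rw [if_pos (by simp only; omega), if_pos h, ← Fin.sum_univ_eq_sum_range (fun k => s k * ev y (k + 1)) d]
    rfl
  · rw [if_neg (by simp only; omega), if_neg (by simp only; omega), if_neg h]
    simp only [Nat.add_sub_cancel, midv]
    rw [show j.val - 1 + 1 = j.val by omega]

/-- A fixed functional supported on the middle vanishes. -/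
theorem fix_zero (hd : 2 ≤ d) (hS : (comp d s - 1).det ≠ 0) (φ : Fin (d + 2) → F) (h0 : φ 0 = 0)
    (hl : φ (Fin.last (d + 1)) = 0) (hfix : φ ᵥ* pairMat d s c = φ) : φ = 0 := by
  have hsum : ∀ g : Fin (d + 2) → F, φ ⬝ᵥ g = midv φ ⬝ᵥ midv g := by
    intro g
    have : φ ⬝ᵥ g = ∑ i : Fin (d + 2), (fun k => ev φ k * ev g k) i.val := by
      simp only [dotProduct, ev_val]
    rw [this, sum_split (fun k => ev φ k * ev g k)]
    have e0 : ev φ 0 = 0 := by rw [ev_mk _ 0 (by omega)]; exact h0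
    have el : ev φ (d + 1) = 0 := by rw [ev_mk _ (d + 1) (by omega)]; exact hl
    rw [e0, el, zero_mul, zero_mul, zero_add, add_zero, dotProduct,
      ← Fin.sum_univ_eq_sum_range (fun k => ev φ (k + 1) * ev g (k + 1)) d]
    rfl
  have key : midv φ ᵥ* (comp d s - 1) = 0 := by
    funext j
    have hj := j.isLt
    set e : Fin (d + 2) → F := Pi.single ⟨j.val + 1, by omega⟩ 1 with he
    have hmid : midv e = Pi.single j 1 := by
      funext i
      simp only [midv]
      rw [ev_mk _ _ (by omega), he, Pi.single_apply, Pi.single_apply]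
      simp [Fin.ext_iff]
    have h1 : φ ⬝ᵥ (pairMat d s c *ᵥ e) = φ ⬝ᵥ e := by rw [dotProduct_mulVec, hfix]
    rw [hsum, hsum, midv_pairMat s c hd, hmid] at h1
    have h2 : (midv φ ᵥ* (comp d s - 1)) ⬝ᵥ Pi.single j 1 = 0 := by
      rw [← dotProduct_mulVec, sub_mulVec, one_mulVec, dotProduct_sub, h1, sub_self]
    rwa [dotProduct_single_one] at h2
  have hm : midv φ = 0 := Matrix.eq_zero_of_vecMul_eq_zero hS key
  funext i
  by_cases hi0 : i.val = 0
  · have : i = 0 := Fin.ext hi0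
    rw [this, h0]; rfl
  by_cases hil : i.val = d + 1
  · have : i = Fin.last (d + 1) := Fin.ext hil
    rw [this, hl]; rfl
  have h2 := congrFun hm ⟨i.val - 1, by omega⟩
  simp only [midv] at h2
  rw [show i.val - 1 + 1 = i.val by omega, ev_val] at h2
  rw [h2]; rfl

theorem pairMat_pow_mulVec (hd : 2 ≤ d) (hS : (comp d s - 1).det ≠ 0) {N : ℕ} (hN : comp d s ^ N = 1)
    (y : Fin (d + 2) → F) :
    pairMat d s c ^ N *ᵥ y = y + ((N : F) * c * ev y (d + 1)) • Pi.single 0 1 := by
  set ρ : Fin d → F := (fun j : Fin d => rr d s c j.val) ᵥ* (comp d s - 1)⁻¹ with hρ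
  have hρS : ρ ᵥ* (comp d s - 1) = fun j : Fin d => rr d s c j.val := by
    rw [hρ, vecMul_vecMul, Matrix.nonsing_inv_mul _ (isUnit_iff_ne_zero.2 hS), vecMul_one]
  have hlast : ∀ z, ev (pairMat d s c *ᵥ z) (d + 1) = ev z (d + 1) := by
    intro z
    rw [ev_mk _ _ (by omega : d + 1 < d + 2), pairMat_mulVec, if_neg (by simp only; omega),
      if_neg (by simp only; omega), if_pos (by simp only)]
  have hf : ∀ z, ev (pairMat d s c *ᵥ z) 0 - ρ ⬝ᵥ midv (pairMat d s c *ᵥ z) =
      ev z 0 - ρ ⬝ᵥ midv z + c * ev z (d + 1) := by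
    intro z
    rw [ev_mk _ 0 (by omega), pairMat_mulVec, if_pos rfl, midv_pairMat s c hd]
    have h1 : ρ ⬝ᵥ (comp d s *ᵥ midv z) = (ρ ᵥ* (comp d s - 1)) ⬝ᵥ midv z + ρ ⬝ᵥ midv z := by
      rw [dotProduct_mulVec, vecMul_sub, vecMul_one, sub_dotProduct, sub_add_cancel]
    rw [h1, hρS]
    have h2 : (fun j : Fin d => rr d s c j.val) ⬝ᵥ midv z = ∑ j ∈ Finset.range d, rr d s c j * ev z (j + 1) := by
      rw [← Fin.sum_univ_eq_sum_range (fun k => rr d s c k * ev z (k + 1)) d]
      rfl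
    rw [h2]; ring
  have hk : ∀ k : ℕ, midv (pairMat d s c ^ k *ᵥ y) = comp d s ^ k *ᵥ midv y ∧
      ev (pairMat d s c ^ k *ᵥ y) (d + 1) = ev y (d + 1) ∧
      ev (pairMat d s c ^ k *ᵥ y) 0 - ρ ⬝ᵥ midv (pairMat d s c ^ k *ᵥ y) =
        ev y 0 - ρ ⬝ᵥ midv y + (k : F) * c * ev y (d + 1) := by
    intro k
    induction k with
    | zero => simp
    | succ k ih =>
      rw [pow_succ', ← mulVec_mulVec]
      refine ⟨?_, ?_, ?_⟩
      · rw [midv_pairMat s c hd, ih.1, pow_succ', mulVec_mulVec]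
      · rw [hlast, ih.2.1]
      · rw [hf, ih.2.2, ih.2.1, Nat.cast_succ]; ring
  obtain ⟨h1, h2, h3⟩ := hk N
  rw [hN, one_mulVec] at h1
  rw [h1] at h3
  funext i
  rw [Pi.add_apply, Pi.smul_apply, Pi.single_apply]
  by_cases hi0 : i.val = 0
  · rw [if_pos (Fin.ext hi0), smul_eq_mul, mul_one, ← ev_val (pairMat d s c ^ N *ᵥ y) i, ← ev_val y i, hi0]
    linear_combination h3
  rw [if_neg (fun h => hi0 (by rw [h]; rfl)), smul_zero, add_zero, ← ev_val (pairMat d s c ^ N *ᵥ y) i, ← ev_val y i]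
  by_cases hil : i.val = d + 1
  · rw [hil, h2]
  · have h4 := congrFun h1 ⟨i.val - 1, by omega⟩
    simp only [midv] at h4
    rwa [show i.val - 1 + 1 = i.val by omega] at h4

theorem alt_lowU (w : Fin (d + 2) → F) (m : ℕ) (hm : m < d + 2) :
    (∑ i ∈ Finset.range (m + 1), (-1) ^ i * ev ((lowU (d + 2) F).1 *ᵥ w) i) = (-1) ^ m * ev w m := by
  induction m with
  | zero => simp [ev_mk _ 0 hm, lowU_mulVec_ev]
  | succ m ih =>
    rw [Finset.sum_range_succ, ih (by omega), ev_mk ((lowU (d + 2) F).1 *ᵥ w) (m + 1) hm, lowU_mulVec_ev,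
      if_neg (by simp only; omega)]
    simp only [Nat.add_sub_cancel, pow_succ]
    ring

section Gen

variable (hd : 2 ≤ d) (hs : s (d - 1) = (-1) ^ (d + 1))

/-- The generation criterion for the pair. -/
theorem pair_generates (hS : (comp d s - 1).det ≠ 0) {N : ℕ} (hN : comp d s ^ N = 1) (hNF : (N : F) = -1)
    (hA : ∀ A : AddSubgroup F, (-1) ^ d * (c * c) ∈ A →
      (∀ r ∈ A, r * ((-1) ^ (d + 1) * c * (2 + rr d s c 0 - s 0)) ∈ A) → A = ⊤)
    (H : Subgroup (Matrix.SpecialLinearGroup (Fin (d + 2)) F)) (hu : pairU s c hd hs ∈ H)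
    (hv : lowU (d + 2) F ∈ H) : H = ⊤ := by
  classical
  have hC : pairC s c hd hs ∈ H := by
    have := H.mul_mem hv hu
    rwa [pairU, mul_inv_cancel_left] at this
  set e0 : Fin (d + 2) → F := Pi.single 0 1 with he0
  set el : Fin (d + 2) → F := Pi.single (Fin.last (d + 1)) 1 with hel
  have hdotl : ∀ x : Fin (d + 2) → F, el ⬝ᵥ x = ev x (d + 1) := fun x => by
    rw [hel, single_dotProduct, one_mul, ev_mk _ _ (by omega)]; rfl
  have he0' : ∀ k, ev e0 k = if k = 0 then 1 else 0 := by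
    intro k
    unfold ev
    by_cases h : k < d + 2
    · rw [dif_pos h, he0, Pi.single_apply]; simp [Fin.ext_iff]
    · rw [dif_neg h, if_neg (by omega)]
  have hX : TV H ((-c) • e0) el := by
    refine ⟨by rw [hdotl, ev_mk _ _ (by omega)]; simp [he0, Fin.ext_iff], (pairC s c hd hs) ^ N, H.pow_mem hC N, fun x => ?_⟩
    rw [Matrix.SpecialLinearGroup.coe_pow]
    show pairMat d s c ^ N *ᵥ x = _
    rw [pairMat_pow_mulVec s c hd hS hN, hNF, hdotl, smul_smul]
    congr 2
    ring
  set v := lowU (d + 2) F with hvdef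
  set b := v.1 *ᵥ e0 with hb
  have hbk : ∀ k, k < d + 2 → ev b k = if k ≤ 1 then 1 else 0 := by
    intro k hk
    rw [ev_mk _ k hk, hb, hvdef, lowU_mulVec_ev, he0', he0']
    simp only
    rcases k with _ | _ | k <;> simp
  have hbl : ev b (d + 1) = 0 := by rw [hbk _ (by omega), if_neg (by omega)]
  set ψ := el ᵥ* (v⁻¹ : Matrix.SpecialLinearGroup (Fin (d + 2)) F).1 with hψ
  have hψd : ∀ z, ψ ⬝ᵥ z = (-1) ^ (d + 1) * ∑ i ∈ Finset.range (d + 2), (-1) ^ i * ev z i := by
    intro z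
    rw [hψ, ← dotProduct_mulVec, hdotl]
    set w := (v⁻¹ : Matrix.SpecialLinearGroup (Fin (d + 2)) F).1 *ᵥ z with hw
    have hvw : (lowU (d + 2) F).1 *ᵥ w = z := by
      rw [hw, mulVec_mulVec, ← Matrix.SpecialLinearGroup.coe_mul, hvdef, mul_inv_cancel,
        Matrix.SpecialLinearGroup.coe_one, one_mulVec]
    rw [← hvw, alt_lowU w (d + 1) (by omega), ← mul_assoc, ← mul_pow]
    simp
  have hX' := hX.conj hv
  rw [← hψ, mulVec_smul, ← hb] at hX'
  set R : AddSubgroup F :=
    { carrier := {r | TV H (r • b) el}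
      zero_mem' := by show TV H ((0 : F) • b) el; rw [zero_smul]; exact TV.zero_left _
      add_mem' := fun {r t} hr ht => by show TV H ((r + t) • b) el; rw [add_smul]; exact TV.add_left hr ht
      neg_mem' := fun {r} hr => by show TV H ((-r) • b) el; rw [neg_smul]; exact TV.neg_left hr } with hR
  have hr0 : (-1) ^ d * (c * c) ∈ R := by
    show TV H (((-1) ^ d * (c * c)) • b) el
    refine (hX.comm hX' (by rw [hdotl, ev_mk _ _ (by omega), Pi.smul_apply, ← ev_mk b _ (by omega), hbl, smul_zero])).congr ?_ rfl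
    rw [hψd, smul_smul]
    congr 1
    rw [Finset.sum_eq_single 0]
    · rw [ev_mk _ 0 (by omega), Pi.smul_apply, ← ev_mk e0 0 (by omega), he0', if_pos rfl, smul_eq_mul]
      ring
    · intro k hk hk0
      have := Finset.mem_range.1 hk
      rw [ev_mk _ k this, Pi.smul_apply, ← ev_mk e0 k this, he0', if_neg hk0, smul_zero, mul_zero]
    · simp
  have hfixl : el ᵥ* ((pairC s c hd hs)⁻¹ : Matrix.SpecialLinearGroup (Fin (d + 2)) F).1 = el := by
    have h1 : el ᵥ* pairMat d s c = el := by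
      funext j
      have h2 : (el ᵥ* pairMat d s c) ⬝ᵥ Pi.single j 1 = el ⬝ᵥ Pi.single j 1 := by
        rw [← dotProduct_mulVec, hdotl, hdotl, ev_mk _ _ (by omega : d + 1 < d + 2), pairMat_mulVec,
          if_neg (by simp only; omega), if_neg (by simp only; omega), if_pos (by simp only)]
      simpa [dotProduct_single_one] using h2
    calc el ᵥ* ((pairC s c hd hs)⁻¹ : Matrix.SpecialLinearGroup (Fin (d + 2)) F).1
        = (el ᵥ* (pairC s c hd hs).1) ᵥ* ((pairC s c hd hs)⁻¹ : Matrix.SpecialLinearGroup (Fin (d + 2)) F).1 := by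
          rw [show (pairC s c hd hs).1 = pairMat d s c from rfl, h1]
      _ = el := by rw [vecMul_vecMul, ← Matrix.SpecialLinearGroup.coe_mul, mul_inv_cancel,
            Matrix.SpecialLinearGroup.coe_one, vecMul_one]
  have hstep : ∀ r ∈ R, r * ((-1) ^ (d + 1) * c * (2 + rr d s c 0 - s 0)) ∈ R := by
    intro r hr
    have h1 : TV H (r • (pairMat d s c *ᵥ b)) el := (TV.conj (show TV H (r • b) el from hr) hC).congr (mulVec_smul ..) hfixl
    refine (h1.comm hX' (by rw [hdotl, ev_mk _ _ (by omega), Pi.smul_apply, ← ev_mk b _ (by omega), hbl, smul_zero])).congr ?_ rfl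
    rw [hψd, smul_smul]
    congr 1
    have hz : ∀ k, k < d + 2 → ev (r • (pairMat d s c *ᵥ b)) k =
        r * (if k = 0 then 1 + rr d s c 0 else if k = 1 then s 0 else if k = 2 then 1 else 0) := by
      intro k hk
      have hs1 : ∀ f : ℕ → F, (∑ j ∈ Finset.range d, f j * ev b (j + 1)) = f 0 := by
        intro f
        rw [Finset.sum_eq_single 0]
        · rw [hbk _ (by omega), if_pos (by omega), mul_one]
        · intro j hj hj0
          have := Finset.mem_range.1 hj
          rw [hbk _ (by omega), if_neg (by omega), mul_zero]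
        · intro h; exact absurd (Finset.mem_range.2 (by omega)) h
      rw [ev_mk _ k hk, Pi.smul_apply, pairMat_mulVec, smul_eq_mul]
      simp only
      congr 1
      rcases k with _ | _ | k
      · rw [if_pos rfl, if_pos rfl, hs1, hbk 0 (by omega), if_pos (by omega), hbl, mul_zero, add_zero]
      · rw [if_neg (by omega), if_pos rfl, hs1, if_neg (by omega), if_pos rfl]
      · rw [if_neg (by omega), if_neg (by omega), if_neg (show k + 1 + 1 ≠ 0 by omega), if_neg (show k + 1 + 1 ≠ 1 by omega)]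
        by_cases hkl : k + 1 + 1 = d + 1
        · rw [if_pos hkl, hbl, if_neg (by omega)]
        · rw [if_neg hkl, hbk _ (by omega)]
          by_cases hk2 : k = 0
          · subst hk2; simp
          · rw [if_neg (by omega), if_neg (by omega)]
    rw [Finset.sum_congr rfl fun k hk => by rw [hz k (Finset.mem_range.1 hk)]]
    obtain ⟨e, rfl⟩ : ∃ e, d = e + 1 := ⟨d - 1, by omega⟩
    rw [Finset.sum_range_succ', Finset.sum_range_succ', Finset.sum_range_succ',
      Finset.sum_eq_zero (fun k _ => by simp)]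
    simp
    ring
  have hRtop := hA R hr0 hstep
  have hall : ∀ r : F, TV H (r • b) el := fun r => by
    show r ∈ R
    rw [hRtop]; exact AddSubgroup.mem_top r
  have hCe0 : pairMat d s c *ᵥ e0 = e0 := by
    funext i
    rw [pairMat_mulVec, ← ev_val e0 i]
    simp only [he0']
    simp only [Nat.add_one_ne_zero, if_false, mul_zero, Finset.sum_const_zero, if_true, add_zero]
    split_ifs with h1 h2 h3 h4 <;> first | rfl | omega
  have hCie0 : ((pairC s c hd hs)⁻¹ : Matrix.SpecialLinearGroup (Fin (d + 2)) F).1 *ᵥ e0 = e0 := by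
    calc ((pairC s c hd hs)⁻¹ : Matrix.SpecialLinearGroup (Fin (d + 2)) F).1 *ᵥ e0
        = ((pairC s c hd hs)⁻¹ : Matrix.SpecialLinearGroup (Fin (d + 2)) F).1 *ᵥ ((pairC s c hd hs).1 *ᵥ e0) := by
          rw [show (pairC s c hd hs).1 = pairMat d s c from rfl, hCe0]
      _ = e0 := by rw [mulVec_mulVec, ← Matrix.SpecialLinearGroup.coe_mul, inv_mul_cancel,
            Matrix.SpecialLinearGroup.coe_one, one_mulVec]
  set Φ : Submodule F (Fin (d + 2) → F) :=
    { carrier := {φ | φ ⬝ᵥ e0 = 0 ∧ ∀ r : F, TV H (r • e0) φ}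
      zero_mem' := ⟨by simp, fun r => TV.zero_right _⟩
      add_mem' := fun {p q} hp hq => ⟨by rw [add_dotProduct, hp.1, hq.1, add_zero], fun r => (hp.2 r).add_right (hq.2 r)⟩
      smul_mem' := fun t p hp => ⟨by rw [smul_dotProduct, hp.1, smul_zero], fun r => by
        have h1 := hp.2 (t * r)
        rw [← smul_smul] at h1
        exact h1.smul_right t (by rw [dotProduct_smul, hp.1, smul_zero])⟩ } with hΦ
  have hΦC : ∀ φ ∈ Φ, φ ᵥ* pairMat d s c ∈ Φ := by
    intro φ hφ
    refine ⟨by rw [← dotProduct_mulVec, hCe0]; exact hφ.1, fun r => ?_⟩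
    refine ((hφ.2 r).conj (H.inv_mem hC)).congr ?_ ?_
    · rw [mulVec_smul, hCie0]
    · rw [inv_inv]; rfl
  have hdot0 : ∀ φ : Fin (d + 2) → F, φ ⬝ᵥ e0 = φ 0 := fun φ => by rw [he0, dotProduct_single_one]
  set ed : Fin (d + 2) → F := Pi.single ⟨d, by omega⟩ 1 with hed
  have hrow : el ᵥ* v.1 = el + ed := by
    funext j
    have h2 : (el ᵥ* v.1) ⬝ᵥ Pi.single j 1 = (el + ed) ⬝ᵥ Pi.single j 1 := by
      rw [← dotProduct_mulVec, hdotl, ev_mk _ _ (by omega : d + 1 < d + 2), hvdef, lowU_mulVec_ev, if_neg (by simp only; omega),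
        add_dotProduct, hed, hel, single_dotProduct, one_mul, single_dotProduct, one_mul,
        ev_mk (Pi.single j 1) (d + 1) (by omega)]
      simp only [Nat.add_sub_cancel]
      rw [ev_mk (Pi.single j 1) d (by omega)]
      rfl
    simpa [dotProduct_single_one] using h2
  have hφ1 : el + ed ∈ Φ := by
    refine ⟨?_, fun r => ?_⟩
    · rw [hdot0]
      rw [Pi.add_apply, hel, hed, Pi.single_eq_of_ne (Fin.ne_of_val_ne (show (0 : ℕ) ≠ d + 1 by omega)),
        Pi.single_eq_of_ne (Fin.ne_of_val_ne (show (0 : ℕ) ≠ d by omega)), add_zero]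
    · refine ((hall r).conj (H.inv_mem hv)).congr ?_ ?_
      · rw [mulVec_smul, hb, mulVec_mulVec, ← Matrix.SpecialLinearGroup.coe_mul, inv_mul_cancel,
          Matrix.SpecialLinearGroup.coe_one, one_mulVec]
      · rw [inv_inv, hrow]
  set M0 : Submodule F (Fin (d + 2) → F) :=
    Φ ⊓ { carrier := {φ | φ 0 = 0 ∧ φ (Fin.last (d + 1)) = 0}
          zero_mem' := ⟨rfl, rfl⟩
          add_mem' := fun {p q} hp hq => ⟨by simp [hp.1, hq.1], by simp [hp.2, hq.2]⟩
          smul_mem' := fun t p hp => ⟨by simp [hp.1], by simp [hp.2]⟩ } with hM0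
  have hfull : ∀ φ : Fin (d + 2) → F, φ 0 = 0 →
      (φ ᵥ* pairMat d s c - φ) 0 = 0 ∧ (φ ᵥ* pairMat d s c - φ) (Fin.last (d + 1)) = 0 := by
    intro φ hφ
    have h1 : (φ ᵥ* pairMat d s c) 0 = 0 := by
      rw [← hdot0 (φ ᵥ* pairMat d s c), ← dotProduct_mulVec, hCe0, hdot0, hφ]
    refine ⟨by rw [Pi.sub_apply, h1, hφ, sub_zero], ?_⟩
    have h2 : pairMat d s c *ᵥ el = c • e0 + el := by
      funext i
      rw [Pi.add_apply, Pi.smul_apply, pairMat_mulVec, ← ev_val e0 i, ← ev_val el i, he0']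
      have hel' : ∀ k, k < d + 2 → ev el k = if k = d + 1 then 1 else 0 := fun k hk => by
        rw [ev_mk _ k hk, hel, Pi.single_apply]; simp [Fin.ext_iff]
      have hi := i.isLt
      have hz : ∀ f : ℕ → F, (∑ j ∈ Finset.range d, f j * ev el (j + 1)) = 0 := fun f =>
        Finset.sum_eq_zero fun j hj => by
          have := Finset.mem_range.1 hj
          rw [hel' _ (by omega), if_neg (by omega), mul_zero]
      rw [hz, hz, hel' 0 (by omega), hel' (d + 1) (by omega), hel' i.val hi, if_neg (by omega : ¬ (0 = d + 1)), if_pos rfl]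
      by_cases h0 : i.val = 0
      · rw [if_pos h0, if_pos h0, if_neg (by omega)]; simp
      rw [if_neg h0, if_neg h0]
      by_cases hi1 : i.val = 1
      · rw [if_pos hi1, if_neg (by omega)]; simp
      rw [if_neg hi1]
      by_cases hil : i.val = d + 1
      · rw [if_pos hil, if_pos hil]; simp
      · rw [if_neg hil, if_neg hil, hel' _ (by omega), if_neg (by omega)]; simp
    rw [Pi.sub_apply]
    have h3 : (φ ᵥ* pairMat d s c) ⬝ᵥ el = φ ⬝ᵥ el := by
      rw [← dotProduct_mulVec, h2, dotProduct_add, dotProduct_smul, hdot0, hφ, smul_zero, zero_add]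
    rw [hel, dotProduct_single_one, dotProduct_single_one] at h3
    rw [h3, sub_self]
  set L : M0 →ₗ[F] M0 :=
    { toFun := fun φ => ⟨φ.1 ᵥ* pairMat d s c - φ.1, Φ.sub_mem (hΦC _ φ.2.1) φ.2.1, hfull _ φ.2.2.1⟩
      map_add' := fun p q => Subtype.ext (by simp only [Submodule.coe_add, add_vecMul]; abel)
      map_smul' := fun t p => Subtype.ext (by simp only [Submodule.coe_smul, smul_vecMul, RingHom.id_apply, smul_sub]) }
    with hL
  have hLinj : Function.Injective L := by
    rw [← LinearMap.ker_eq_bot, LinearMap.ker_eq_bot']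
    intro φ hφ
    have h1 : φ.1 ᵥ* pairMat d s c - φ.1 = 0 := congrArg Subtype.val hφ
    exact Subtype.ext (fix_zero s c hd hS φ.1 φ.2.2.1 φ.2.2.2 (sub_eq_zero.1 h1))
  have hed0 : ed 0 = 0 ∧ ed (Fin.last (d + 1)) = 0 := by
    rw [hed]
    exact ⟨Pi.single_eq_of_ne (Fin.ne_of_val_ne (show (0 : ℕ) ≠ d by omega)) _,
      Pi.single_eq_of_ne (Fin.ne_of_val_ne (show d + 1 ≠ d by omega)) _⟩
  have helC : el ᵥ* pairMat d s c = el := by
    calc el ᵥ* pairMat d s c = (el ᵥ* ((pairC s c hd hs)⁻¹ : Matrix.SpecialLinearGroup (Fin (d + 2)) F).1) ᵥ* (pairC s c hd hs).1 := by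
          rw [hfixl]; rfl
      _ = el := by rw [vecMul_vecMul, ← Matrix.SpecialLinearGroup.coe_mul, inv_mul_cancel,
            Matrix.SpecialLinearGroup.coe_one, vecMul_one]
  have hm1 : ed ᵥ* pairMat d s c - ed ∈ M0 := by
    refine ⟨?_, hfull ed hed0.1⟩
    have h1 : (el + ed) ᵥ* pairMat d s c - (el + ed) ∈ Φ := Φ.sub_mem (hΦC _ hφ1) hφ1
    rwa [add_vecMul, helC, add_sub_add_left_eq_sub] at h1
  obtain ⟨m, hm⟩ := (LinearMap.injective_iff_surjective.1 hLinj) ⟨_, hm1⟩
  have h4 : m.1 ᵥ* pairMat d s c - m.1 = ed ᵥ* pairMat d s c - ed := congrArg Subtype.val hm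
  have h5 : m.1 - ed = 0 := by
    refine fix_zero s c hd hS _ (by rw [Pi.sub_apply, m.2.2.1, hed0.1, sub_zero])
      (by rw [Pi.sub_apply, m.2.2.2, hed0.2, sub_zero]) ?_
    rw [sub_vecMul]
    linear_combination h4
  have hel1 : el ∈ Φ := by
    have h6 : ed ∈ Φ := by rw [← sub_eq_zero.1 h5]; exact m.2.1
    have := Φ.sub_mem hφ1 h6
    rwa [add_sub_cancel_right] at this
  refine eq_top_of_scalars H (by omega) v hv (fun _ => 1) (fun _ => one_pow 2) (fun x i => ?_) hel1.2
  rw [hvdef, lowU_mulVec]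
  by_cases h : i.val = 0
  · rw [dif_pos h, dif_pos h]
  · rw [dif_neg h, dif_neg h, one_mul]

end Gen

/-- The companion coefficients of `X^d + a X^(d-1) + (-1)^d`. -/
def sA (d : ℕ) (a : F) (j : ℕ) : F := if j = 0 then -a else if j + 1 = d then (-1) ^ (d + 1) else 0

theorem sA_last (hd : 2 ≤ d) (a : F) : sA d a (d - 1) = (-1) ^ (d + 1) := by
  rw [sA, if_neg (by omega), if_pos (by omega)]

theorem charpoly_sA (hd : 2 ≤ d) (a : F) :
    (comp d (sA d a)).charpoly = X ^ d + Polynomial.C a * X ^ (d - 1) + Polynomial.C ((-1) ^ d) := by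
  obtain ⟨e, rfl⟩ : ∃ e, d = e + 2 := ⟨d - 2, by omega⟩
  rw [charpoly_comp, Finset.sum_range_succ, Finset.sum_range_succ', Finset.sum_eq_zero]
  · simp [sA, show ¬ (e + 1 = 0) by omega, pow_succ]
    ring
  · intro j hj
    have := Finset.mem_range.1 hj
    simp [sA, show ¬ (j + 1 + 1 = e + 2) by omega, show ¬ j = e by omega]

/-- Consequences of separability and `g(1) ≠ 0`. -/
theorem exists_data [Fintype F] (hd : 2 ≤ d) (a : F)
    (hsep : (X ^ d + Polynomial.C a * X ^ (d - 1) + Polynomial.C ((-1) ^ d) : F[X]).Separable)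
    (h1 : 1 + a + (-1) ^ d ≠ 0) :
    (comp d (sA d a) - 1).det ≠ 0 ∧ ∃ N : ℕ, comp d (sA d a) ^ N = 1 ∧ (N : F) = -1 := by
  have hg := charpoly_sA hd a
  refine ⟨?_, ?_⟩
  · have h := Matrix.eval_charpoly (comp d (sA d a)) 1
    rw [hg] at h
    simp only [eval_add, eval_pow, eval_X, one_pow, eval_mul, eval_C, mul_one, map_one] at h
    intro h0
    refine h1 ?_
    rw [h, show (1 : Matrix (Fin d) (Fin d) F) - comp d (sA d a) = -(comp d (sA d a) - 1) by abel,
      Matrix.det_neg, h0, mul_zero]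
  · have hdet : (comp d (sA d a)).det ≠ 0 := by
      rw [Matrix.det_eq_sign_charpoly_coeff, hg]
      simp only [coeff_add, coeff_C_zero, coeff_C_mul, Polynomial.coeff_X_pow]
      simp [show ¬ (0 = d) by omega, show ¬ (0 = d - 1) by omega]
    obtain ⟨N, hN, hpow⟩ := exists_pow_eq_one (comp d (sA d a)) (hg ▸ hsep) hdet
    exact ⟨N, hpow, hN⟩

end Cfsg.Agent.RegGen
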