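import Mathlib

/-!
Determinants of matrices with one full row and two diagonals; companion matrices over finite fields.
-/

set_option autoImplicit false

namespace Cfsg.Agent.RegGen

open Matrix Polynomial

/-- First row `b`, then `β` below the diagonal and `α` on it. -/
def hess {R : Type*} [CommRing R] (m : ℕ) (α β : R) (b : ℕ → R) : Matrix (Fin m) (Fin m) R :=
  Matrix.of fun i j => if i.val = 0 then b j.val else if j.val + 1 = i.val then β else if j = i then α else 0

theorem det_hess {R : Type*} [CommRing R] (m : ℕ) (α β : R) (b : ℕ → R) :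
    (hess (m + 1) α β b).det = ∑ j ∈ Finset.range (m + 1), (-1) ^ j * b j * α ^ (m - j) * β ^ j := by
  induction m with
  | zero => simp [hess]
  | succ m ih =>
    set M := hess (m + 1 + 1) α β b with hM
    rw [Matrix.det_succ_column M (Fin.last (m + 1))]
    have h0 : (0 : Fin (m + 2)) ≠ Fin.last (m + 1) := by simp [Fin.ext_iff]
    rw [Finset.sum_eq_add (0 : Fin (m + 2)) (Fin.last (m + 1)) h0]
    · have e1 : (M.submatrix (0 : Fin (m + 2)).succAbove (Fin.last (m + 1)).succAbove).det = β ^ (m + 1) := by
        rw [Fin.succAbove_zero, Fin.succAbove_last, Matrix.det_of_isUpperTriangular]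
        · rw [Finset.prod_congr rfl (fun i _ => ?_), Finset.prod_const, Finset.card_univ, Fintype.card_fin]
          simp [hM, hess]
        · intro i j (hij : j < i)
          have h : j.val < i.val := hij
          simp [hM, hess, -Fin.val_eq_zero_iff, Fin.ext_iff, Fin.val_last, Fin.val_zero]
          rw [if_neg (by omega), if_neg (by omega)]
      have e2 : M.submatrix (Fin.last (m + 1)).succAbove (Fin.last (m + 1)).succAbove = hess (m + 1) α β b := by
        ext i j
        simp [hM, hess, Fin.succAbove_last, -Fin.val_eq_zero_iff, Fin.ext_iff, Fin.val_last, Fin.val_zero]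
      rw [e1, e2, ih, Finset.sum_range_succ _ (m + 1)]
      have hl : M (Fin.last (m + 1)) (Fin.last (m + 1)) = α := by simp [hM, hess]
      have hz : M 0 (Fin.last (m + 1)) = b (m + 1) := by simp [hM, hess]
      rw [hl, hz, Finset.mul_sum]
      simp only [Fin.val_last, Fin.val_zero, zero_add, Nat.sub_self, pow_zero, mul_one]
      rw [add_comm]
      congr 1
      refine Finset.sum_congr rfl fun j hj => ?_
      have hj' : j ≤ m := by have := Finset.mem_range.1 hj; omega
      rw [show m + 1 - j = m - j + 1 by omega, pow_succ, ← two_mul, pow_mul]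
      simp
      ring
    · intro i _ hi
      have h1 : i.val ≠ 0 := fun h => hi.1 (Fin.ext h)
      have h2 : i.val ≠ m + 1 := fun h => hi.2 (Fin.ext h)
      have hz : M i (Fin.last (m + 1)) = 0 := by
        simp [hM, hess, -Fin.val_eq_zero_iff, Fin.ext_iff, Fin.val_last, Fin.val_zero, h1]
        rw [if_neg (by omega), if_neg (by omega)]
      rw [hz, mul_zero, zero_mul]
    · simp
    · simp

/-- The companion matrix with first row `s`. -/
def comp {R : Type*} [CommRing R] (d : ℕ) (s : ℕ → R) : Matrix (Fin d) (Fin d) R :=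
  Matrix.of fun i j => if i.val = 0 then s j.val else if j.val + 1 = i.val then 1 else 0

theorem charpoly_comp {R : Type*} [CommRing R] (d : ℕ) (s : ℕ → R) :
    (comp (d + 1) s).charpoly = X ^ (d + 1) - ∑ j ∈ Finset.range (d + 1), C (s j) * X ^ (d - j) := by
  have e : (comp (d + 1) s).charmatrix =
      hess (d + 1) (X : R[X]) (-1) (fun j => (if j = 0 then (X : R[X]) else 0) - C (s j)) := by
    ext i j
    rw [charmatrix_apply]
    simp only [comp, hess, Matrix.of_apply, Matrix.diagonal_apply]
    by_cases hi : i.val = 0
    · rw [if_pos hi, if_pos hi]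
      congr 1
      by_cases hj : j.val = 0
      · rw [if_pos hj, if_pos (Fin.ext (hi.trans hj.symm))]
      · rw [if_neg hj, if_neg (fun e => hj (by rw [← e, hi]))]
    · rw [if_neg hi, if_neg hi]
      by_cases hs : j.val + 1 = i.val
      · rw [if_pos hs, if_pos hs, if_neg (fun e => by subst e; omega)]
        simp
      · rw [if_neg hs, if_neg hs, map_zero, sub_zero]
        by_cases hd : i = j
        · rw [if_pos hd, if_pos hd.symm]
        · rw [if_neg hd, if_neg (Ne.symm hd)]
  rw [Matrix.charpoly, e, det_hess]
  rw [Finset.sum_range_succ', Finset.sum_range_succ' (fun j => C (s j) * X ^ (d - j))]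
  simp only [if_true, Nat.sub_zero, pow_zero, mul_one, one_mul, Nat.add_one_ne_zero, if_false, zero_sub]
  have : ∀ j, (-1 : R[X]) ^ (j + 1) * -C (s (j + 1)) * X ^ (d - (j + 1)) * (-1) ^ (j + 1) =
      -(C (s (j + 1)) * X ^ (d - (j + 1))) := by
    intro j
    have h1 : ((-1 : R[X]) ^ (j + 1)) * (-1) ^ (j + 1) = 1 := by rw [← mul_pow]; simp
    linear_combination (-(C (s (j + 1)) * X ^ (d - (j + 1)))) * h1
  simp only [this, Finset.sum_neg_distrib]
  ring

/-- A matrix with separable characteristic polynomial over a finite field has order dividing some `N` that is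
minus one in the field. -/
theorem exists_pow_eq_one {F : Type*} [Field F] [Fintype F] {m : ℕ} (M : Matrix (Fin m) (Fin m) F)
    (hsep : M.charpoly.Separable) (hdet : M.det ≠ 0) : ∃ N : ℕ, (N : F) = -1 ∧ M ^ N = 1 := by
  classical
  set g := M.charpoly with hg
  let E := g.SplittingField
  haveI : Finite E := Module.finite_of_finite F
  haveI := Fintype.ofFinite E
  set Q := Fintype.card E with hQ
  have hQ1 : 1 < Q := Fintype.one_lt_card
  have hgE0 : g.map (algebraMap F E) ≠ 0 := Polynomial.map_ne_zero (M.charpoly_monic.ne_zero)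
  have hdvd : g ∣ X ^ Q - X := by
    rw [← Polynomial.map_dvd_map' (algebraMap F E)]
    refine (Polynomial.SplittingField.splits g).dvd_of_roots_le_roots hgE0 ?_
    rw [Multiset.le_iff_subset (Polynomial.nodup_roots (hsep.map))]
    intro x _
    rw [Polynomial.map_sub, Polynomial.map_pow, Polynomial.map_X, FiniteField.roots_X_pow_card_sub_X]
    exact Finset.mem_univ x
  obtain ⟨k, hk⟩ := hdvd
  have h1 : M ^ Q = M := by
    have h2 := congrArg (Polynomial.aeval M) hk
    rw [map_mul, hg, Matrix.aeval_self_charpoly, zero_mul, map_sub, map_pow, Polynomial.aeval_X, sub_eq_zero] at h2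
    exact h2
  refine ⟨Q - 1, ?_, ?_⟩
  · have h0 : (Q : F) = 0 := by
      apply (algebraMap F E).injective
      rw [map_natCast, map_zero, hQ]
      exact FiniteField.cast_card_eq_zero E
    rw [Nat.cast_sub (by omega), h0, Nat.cast_one, zero_sub]
  · have hu : IsUnit M := (Matrix.isUnit_iff_isUnit_det M).2 (Ne.isUnit hdet)
    refine hu.mul_left_cancel ?_
    rw [← pow_succ', Nat.sub_add_cancel (by omega : 1 ≤ Q), h1, mul_one]

end Cfsg.Agent.RegGen
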