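import Cfsg.Agent.RegGen.TV
import Mathlib

/-!
SL_n over a finite field is generated by three conjugates of a regular unipotent element.
-/

set_option autoImplicit false

namespace Cfsg.Agent.RegGen

open Matrix

variable {F : Type*} [Field F] {n : ℕ}

/-- The superdiagonal nilpotent matrix. -/
def shiftUp (n : ℕ) (F : Type*) [Field F] : Matrix (Fin n) (Fin n) F :=
  Matrix.of fun i j => if j.val = i.val + 1 then 1 else 0

theorem shiftUp_pow (k : ℕ) (i j : Fin n) :
    (shiftUp n F ^ k) i j = if j.val = i.val + k then 1 else 0 := by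
  induction k generalizing i j with
  | zero => simp [Matrix.one_apply, Fin.ext_iff, eq_comm]
  | succ k ih =>
    rw [pow_succ, Matrix.mul_apply]
    simp only [ih]
    simp only [shiftUp, Matrix.of_apply]
    by_cases h : i.val + k < n
    · rw [Finset.sum_eq_single (⟨i.val + k, h⟩ : Fin n)]
      · simp [add_assoc]
      · intro b _ hb
        rw [if_neg (fun e => hb (Fin.ext e)), zero_mul]
      · simp
    · rw [Finset.sum_eq_zero, if_neg (by omega)]
      intro b _
      rw [if_neg (by omega), zero_mul]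

/-- The standard regular unipotent element. -/
def regU (n : ℕ) (F : Type*) [Field F] : Matrix.SpecialLinearGroup (Fin n) F :=
  ⟨1 + shiftUp n F, by
    rw [Matrix.det_of_upperTriangular (fun i j (h : j < i) => by
      have hji : j.val < i.val := h
      simp [shiftUp, Matrix.one_apply_ne (ne_of_gt h), show ¬ (j.val = i.val + 1) by omega])]
    simp [shiftUp]⟩

theorem regU_sub_one : (regU n F).1 - 1 = shiftUp n F := by simp [regU]

theorem regU_isNilpotent : IsNilpotent ((regU n F).1 - 1) := by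
  refine ⟨n, ?_⟩
  rw [regU_sub_one]
  ext i j
  rw [shiftUp_pow, if_neg (by omega)]
  rfl

theorem regU_pow_ne (hn : 1 ≤ n) : ((regU n F).1 - 1) ^ (n - 1) ≠ 0 := by
  intro h
  rw [regU_sub_one] at h
  have := congrFun (congrFun h ⟨0, by omega⟩) ⟨n - 1, by omega⟩
  rw [shiftUp_pow, if_pos (by simp)] at this
  exact one_ne_zero this

theorem regU_mulVec (x : Fin n → F) (i : Fin n) :
    ((regU n F).1 *ᵥ x) i = x i + if h : i.val + 1 < n then x ⟨i.val + 1, h⟩ else 0 := by
  show ((1 + shiftUp n F) *ᵥ x) i = _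
  rw [add_mulVec, one_mulVec, Pi.add_apply]
  congr 1
  simp only [mulVec, dotProduct, shiftUp, Matrix.of_apply]
  by_cases h : i.val + 1 < n
  · rw [dif_pos h, Finset.sum_eq_single (⟨i.val + 1, h⟩ : Fin n)]
    · simp
    · intro b _ hb; rw [if_neg (fun e => hb (Fin.ext e)), zero_mul]
    · simp
  · rw [dif_neg h]
    exact Finset.sum_eq_zero fun b _ => by rw [if_neg (by omega), zero_mul]

variable (H : Subgroup (Matrix.SpecialLinearGroup (Fin n) F))

/-- The generation criterion, all scalars on the extreme root being known. -/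
theorem eq_top_of_scalars (hn : 3 ≤ n) (v : Matrix.SpecialLinearGroup (Fin n) F) (hv : v ∈ H)
    (a : Fin n → F) (ha : ∀ i : Fin n, a i ^ 2 = 1)
    (hv' : ∀ (x : Fin n → F) (i : Fin n),
      (v.1 *ᵥ x) i = x i + if h : i.val = 0 then 0 else a i * x ⟨i.val - 1, by omega⟩)
    (hS : ∀ r : F, TV H (r • Pi.single ⟨0, by omega⟩ 1) (Pi.single ⟨n - 1, by omega⟩ 1)) : H = ⊤ := by
  classical
  set e : Fin n → Fin n → F := fun i => Pi.single i 1 with he
  set z : Fin n := ⟨0, by omega⟩ with hz
  set o : Fin n := ⟨1, by omega⟩ with ho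
  set l : Fin n := ⟨n - 1, by omega⟩ with hl
  replace hS : ∀ r : F, TV H (r • e z) (e l) := hS
  have ha0 : ∀ i, a i ≠ 0 := fun i h => by simpa [h] using ha i
  have hvinv : ∀ x, v.1 *ᵥ ((v⁻¹ : Matrix.SpecialLinearGroup (Fin n) F).1 *ᵥ x) = x := fun x => by
    rw [mulVec_mulVec, ← Matrix.SpecialLinearGroup.coe_mul, mul_inv_cancel, Matrix.SpecialLinearGroup.coe_one, one_mulVec]
  set w : Fin n → F := (v⁻¹ : Matrix.SpecialLinearGroup (Fin n) F).1 *ᵥ e z with hw
  have hwsq : ∀ k (hk : k < n), w ⟨k, hk⟩ ^ 2 = 1 := by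
    intro k
    induction k with
    | zero =>
      intro hk
      have := congrFun (hvinv (e z)) ⟨0, hk⟩
      rw [hv', ← hw, dif_pos rfl, add_zero] at this
      rw [this]; simp [he, hz]
    | succ k ih =>
      intro hk
      have := congrFun (hvinv (e z)) ⟨k + 1, hk⟩
      rw [hv', ← hw, dif_neg (by simp)] at this
      have h0 : e z ⟨k + 1, hk⟩ = 0 := by simp [he, hz]
      rw [h0, add_eq_zero_iff_eq_neg] at this
      rw [this, neg_sq, mul_pow, ha, one_mul]
      exact ih (by omega)
  set π := w l with hπ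
  have hπ2 : π ^ 2 = 1 := hwsq _ _
  have hπ0 : π ≠ 0 := fun h => by simpa [h] using hπ2
  have hdot : ∀ (i : Fin n) (x : Fin n → F), e i ⬝ᵥ x = x i := fun i x => by simp [he]
  -- all functionals
  have hPhi : ∀ (d k : ℕ) (hk : k < n), k + d = n - 1 → 1 ≤ k → ∀ r : F, TV H (r • e z) (e ⟨k, hk⟩) := by
    intro d
    induction d with
    | zero =>
      intro k hk hkd _ r
      have : (⟨k, hk⟩ : Fin n) = l := Fin.ext (by simp [hl]; omega)
      rw [this]; exact hS r
    | succ d ih =>
      intro k hk hkd hk1 r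
      have hk2 : k + 1 < n := by omega
      set k' : Fin n := ⟨k + 1, hk2⟩ with hk'
      set k₀ : Fin n := ⟨k, hk⟩ with hk₀
      have hrow : e k' ᵥ* v.1 = e k' + a k' • e k₀ := by
        funext j
        have h2 : (e k' ᵥ* v.1) ⬝ᵥ e j = (e k' + a k' • e k₀) ⬝ᵥ e j := by
          rw [← dotProduct_mulVec, hdot, hv', dif_neg (by simp [hk']), add_dotProduct, smul_dotProduct, hdot, hdot]
          simp [hk', hk₀, smul_eq_mul]
        simpa [he, dotProduct_single_one] using h2
      have hstep : ∀ t : F, TV H (t • e z) (e k' + a k' • e k₀) := by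
        intro t
        have h1 := (ih (k + 1) hk2 (by omega) (by omega) 1).conj (H.inv_mem hv)
        rw [inv_inv, hrow, one_smul, ← hw] at h1
        have h2 := h1.comm (hS (-(t * π))) (by
          have e1 : e z k' = 0 := Pi.single_eq_of_ne (Fin.ne_of_val_ne (show k + 1 ≠ 0 by omega)) _
          have e2 : e z k₀ = 0 := Pi.single_eq_of_ne (Fin.ne_of_val_ne (show k ≠ 0 by omega)) _
          rw [add_dotProduct, smul_dotProduct, dotProduct_smul, dotProduct_smul, hdot, hdot, e1, e2]
          simp)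
        refine h2.congr ?_ rfl
        rw [hdot, ← hπ, smul_smul]
        congr 1
        calc -π * -(t * π) = t * π ^ 2 := by ring
          _ = t := by rw [hπ2, mul_one]
      have hperp : e k₀ ⬝ᵥ e z = 0 := by
        rw [hdot]; exact Pi.single_eq_of_ne (Fin.ne_of_val_ne (show k ≠ 0 by omega)) _
      have h6 : TV H ((a k' * r) • e z) (a k' • e k₀) := by
        have h3 := (hstep (r * a k')).add_right ((ih (k + 1) hk2 (by omega) (by omega) (r * a k')).neg_right)
        rw [add_neg_cancel_comm, mul_comm] at h3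
        exact h3
      have h7 := h6.smul_left (a k') (by rw [dotProduct_smul, hperp, smul_zero])
      refine h7.congr ?_ rfl
      rw [smul_smul, ← mul_assoc, ← pow_two, ha, one_mul]
  have hPz : Pt H (e z) := by
    intro φ hφ
    have hsum : φ = ∑ k, φ k • e k := by
      funext i; simp [he, Finset.sum_apply, Pi.single_apply]
    rw [hsum]
    refine TV.sum_right _ _ fun k _ => ?_
    rcases eq_or_ne k z with rfl | hkz
    · have : φ z = 0 := by rw [dotProduct_comm, hdot] at hφ; exact hφ
      rw [this, zero_smul]; exact TV.zero_right _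
    · have hk1 : 1 ≤ k.val := by
        have : k.val ≠ 0 := fun h => hkz (Fin.ext h)
        omega
      have h := hPhi (n - 1 - k.val) k.val k.isLt (by omega) hk1 (φ k)
      exact h.smul_right _ (by rw [hdot]; simp [he, hkz])
  refine eq_top_of_pt fun i => ?_
  obtain ⟨k, hk⟩ := i
  induction k with
  | zero => exact hPz
  | succ k ih =>
    have hP : Pt H (e ⟨k, by omega⟩) := ih (by omega)
    set k' : Fin n := ⟨k + 1, hk⟩ with hk'
    set k₀ : Fin n := ⟨k, by omega⟩ with hk₀
    have h1 := hP.map hv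
    have h2 : v.1 *ᵥ e k₀ = e k₀ + a k' • e k' := by
      funext i
      rw [hv']
      by_cases hi0 : i.val = 0
      · rw [dif_pos hi0]
        simp [he, hk', hk₀, Pi.single_apply, Fin.ext_iff, hi0]
      · rw [dif_neg hi0]
        rcases eq_or_ne i k' with rfl | hik
        · simp [he, hk', hk₀, Pi.single_apply, Fin.ext_iff]
        · have : ¬ i.val = k + 1 := fun h => hik (Fin.ext h)
          simp [he, hk', hk₀, Pi.single_apply, Fin.ext_iff, this, show ¬ (i.val - 1 = k) by omega]
    rw [h2] at h1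
    have hne : k₀ ≠ k' := by simp [hk', hk₀, Fin.ext_iff]
    obtain ⟨hperp, g, hg, hgx⟩ := hP (-(a k')⁻¹ • e k') (by rw [smul_dotProduct, hdot]; simp [he, hne.symm])
    have h3 := h1.map hg
    rw [hgx] at h3
    have h4 : e k₀ + a k' • e k' + ((-(a k')⁻¹ • e k') ⬝ᵥ (e k₀ + a k' • e k')) • e k₀ = a k' • e k' := by
      rw [smul_dotProduct, hdot]
      simp [he, hne.symm, ha0 k']
    rw [h4] at h3
    have h5 := h3.smul (a k')
    rwa [smul_smul, ← pow_two, ha, one_smul] at h5

/-- The generation criterion. -/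
theorem eq_top_of_generators (hn : 3 ≤ n) (u v : Matrix.SpecialLinearGroup (Fin n) F) (hu : u ∈ H) (hv : v ∈ H)
    (hu' : ∀ (x : Fin n → F) (i : Fin n), (u.1 *ᵥ x) i = x i + if h : i.val + 1 < n then x ⟨i.val + 1, h⟩ else 0)
    (a : Fin n → F) (ha : ∀ i : Fin n, a i ^ 2 = 1)
    (hv' : ∀ (x : Fin n → F) (i : Fin n),
      (v.1 *ᵥ x) i = x i + if h : i.val = 0 then 0 else a i * x ⟨i.val - 1, by omega⟩)
    (c : F) (hc : TV H (c • Pi.single ⟨0, by omega⟩ 1) (Pi.single ⟨n - 1, by omega⟩ 1))
    (hgen : ∀ r : F, r ≠ 0 → ∃ k : ℕ, r = c ^ (k + 1)) : H = ⊤ := by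
  classical
  set e : Fin n → Fin n → F := fun i => Pi.single i 1 with he
  set z : Fin n := ⟨0, by omega⟩ with hz
  set o : Fin n := ⟨1, by omega⟩ with ho
  set l : Fin n := ⟨n - 1, by omega⟩ with hl
  have ha0 : ∀ i, a i ≠ 0 := fun i h => by simpa [h] using ha i
  have hvinv : ∀ x, v.1 *ᵥ ((v⁻¹ : Matrix.SpecialLinearGroup (Fin n) F).1 *ᵥ x) = x := fun x => by
    rw [mulVec_mulVec, ← Matrix.SpecialLinearGroup.coe_mul, mul_inv_cancel, Matrix.SpecialLinearGroup.coe_one, one_mulVec]
  set w : Fin n → F := (v⁻¹ : Matrix.SpecialLinearGroup (Fin n) F).1 *ᵥ e z with hw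
  have hwsq : ∀ k (hk : k < n), w ⟨k, hk⟩ ^ 2 = 1 := by
    intro k
    induction k with
    | zero =>
      intro hk
      have := congrFun (hvinv (e z)) ⟨0, hk⟩
      rw [hv', ← hw, dif_pos rfl, add_zero] at this
      rw [this]; simp [he, hz]
    | succ k ih =>
      intro hk
      have := congrFun (hvinv (e z)) ⟨k + 1, hk⟩
      rw [hv', ← hw, dif_neg (by simp)] at this
      have h0 : e z ⟨k + 1, hk⟩ = 0 := by simp [he, hz]
      rw [h0, add_eq_zero_iff_eq_neg] at this
      rw [this, neg_sq, mul_pow, ha, one_mul]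
      exact ih (by omega)
  set π := w l with hπ
  have hπ2 : π ^ 2 = 1 := hwsq _ _
  have hπ0 : π ≠ 0 := fun h => by simpa [h] using hπ2
  have hdot : ∀ (i : Fin n) (x : Fin n → F), e i ⬝ᵥ x = x i := fun i x => by simp [he]
  have hvez : v.1 *ᵥ e z = e z + a o • e o := by
    funext i
    rw [hv']
    rcases eq_or_ne i z with rfl | hiz
    · simp [he, hz, ho]
    · have : i.val ≠ 0 := fun h => hiz (Fin.ext h)
      rw [dif_neg this]
      rcases eq_or_ne i o with rfl | hio
      · simp [he, hz, ho]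
      · have h1 : i.val ≠ 1 := fun h => hio (Fin.ext h)
        simp [he, hiz, hio, hz, Fin.ext_iff, show ¬ (i.val - 1 = 0) by omega, this, h1]
  have hvezl : (v.1 *ᵥ e z) l = 0 := by
    rw [hvez]; simp [he, hz, ho, hl, Fin.ext_iff, show ¬ (n - 1 = 0) by omega, show ¬ (n - 1 = 1) by omega]
  have hul : e l ᵥ* (u⁻¹ : Matrix.SpecialLinearGroup (Fin n) F).1 = e l := by
    funext j
    have key : ∀ x, ((u⁻¹ : Matrix.SpecialLinearGroup (Fin n) F).1 *ᵥ x) l = x l := by
      intro x
      have h1 := hu' ((u⁻¹ : Matrix.SpecialLinearGroup (Fin n) F).1 *ᵥ x) l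
      rw [mulVec_mulVec, ← Matrix.SpecialLinearGroup.coe_mul, mul_inv_cancel, Matrix.SpecialLinearGroup.coe_one,
        one_mulVec, dif_neg (by simp [hl]; omega), add_zero] at h1
      exact h1.symm
    have h2 : (e l ᵥ* (u⁻¹ : Matrix.SpecialLinearGroup (Fin n) F).1) ⬝ᵥ e j = e l ⬝ᵥ e j := by
      rw [← dotProduct_mulVec, hdot, hdot, key]
    simpa [he, dotProduct_single_one] using h2
  -- the additive set of scalars on the extreme root
  have hTrot : ∀ r, TV H (r • e z) (e l) → TV H (-(r * π * c) • (v.1 *ᵥ e z)) (e l) := by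
    intro r hr
    have hB := hc.conj hv
    have := hr.comm hB (by rw [hdot, mulVec_smul]; simp only [Pi.smul_apply, he] at *; rw [hvezl, smul_zero])
    refine this.congr ?_ rfl
    rw [← dotProduct_mulVec, mulVec_smul, ← hw, show (Pi.single (⟨n - 1, by omega⟩ : Fin n) (1 : F)) = e l from rfl,
      hdot, Pi.smul_apply, ← hπ, mulVec_smul, smul_smul, smul_eq_mul]
    congr 1
    ring
  have hmulc : ∀ r, TV H (r • e z) (e l) → TV H ((r * c) • e z) (e l) := by
    intro r hr
    have h1 := hTrot r hr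
    have h2 := h1.conj hu
    rw [hul, mulVec_smul] at h2
    have h3 : u.1 *ᵥ (v.1 *ᵥ e z) = v.1 *ᵥ e z + a o • e z := by
      funext i
      rw [hu', Pi.add_apply]
      congr 1
      rw [hvez]
      rcases eq_or_ne i z with rfl | hiz
      · rw [dif_pos (by simp [hz]; omega)]
        simp [he, hz, ho]
      · have : i.val ≠ 0 := fun h => hiz (Fin.ext h)
        by_cases h : i.val + 1 < n
        · rw [dif_pos h]; simp [he, hz, ho, Fin.ext_iff, hiz, this, show ¬ i.val + 1 = 0 by omega]
        · rw [dif_neg h]; simp [he, hiz]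
    rw [h3] at h2
    have h4 := h2.add_left h1.neg_left
    rw [smul_add, add_neg_cancel_comm, smul_smul] at h4
    have hsq : (π * a o) ^ 2 = 1 := by rw [mul_pow, hπ2, ha, one_mul]
    rcases sq_eq_one_iff.1 hsq with hs | hs
    · have h5 := h4.neg_left
      refine h5.congr ?_ rfl
      rw [← neg_smul]
      congr 1
      calc -(-(r * π * c) * a o) = r * c * (π * a o) := by ring
        _ = r * c := by rw [hs, mul_one]
    · refine h4.congr ?_ rfl
      congr 1
      calc -(r * π * c) * a o = -(r * c * (π * a o)) := by ring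
        _ = r * c := by rw [hs]; ring
  have hS : ∀ r : F, TV H (r • e z) (e l) := by
    intro r
    rcases eq_or_ne r 0 with rfl | hr
    · rw [zero_smul]; exact TV.zero_left _
    obtain ⟨k, rfl⟩ := hgen r hr
    clear hr
    induction k with
    | zero => simpa using hc
    | succ k ih => rw [pow_succ]; exact hmulc _ ih
  exact eq_top_of_scalars H hn v hv a ha hv' hS

/-- SL_n of a finite field is generated by three conjugates of a regular unipotent. -/
theorem three_conjugates_generate [Fintype F] (hn : 3 ≤ n) :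
    ∃ g h : Matrix.SpecialLinearGroup (Fin n) F,
      Subgroup.closure ({regU n F, g * regU n F * g⁻¹, h * regU n F * h⁻¹} : Set (Matrix.SpecialLinearGroup (Fin n) F)) = ⊤ := by
  classical
  obtain ⟨γ, hγ⟩ := IsCyclic.exists_generator (α := Fˣ)
  set c : F := (γ : F) with hc
  set δ : F := ((Equiv.Perm.sign (Fin.revPerm : Equiv.Perm (Fin n)) : ℤ) : F) with hδ
  have hδ2 : δ ^ 2 = 1 := by
    rw [hδ, pow_two, ← Int.cast_mul]
    rcases Int.units_eq_one_or (Equiv.Perm.sign (Fin.revPerm : Equiv.Perm (Fin n))) with h | h <;> simp [h]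
  set d : Fin n → F := fun i => if i.val = 0 then δ else 1 with hd
  have hd2 : ∀ i, d i ^ 2 = 1 := fun i => by simp only [hd]; split_ifs <;> simp [hδ2]
  set G : Matrix.SpecialLinearGroup (Fin n) F :=
    ⟨Matrix.diagonal d * (Fin.revPerm : Equiv.Perm (Fin n)).permMatrix F, by
      rw [Matrix.det_mul, Matrix.det_diagonal, Matrix.det_permutation, ← hδ,
        Finset.prod_eq_single (⟨0, by omega⟩ : Fin n)]
      · simp [hd, ← pow_two, hδ2]
      · intro b _ hb
        simp [hd, show b.val ≠ 0 from fun h => hb (Fin.ext h)]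
      · simp⟩ with hG
  have hGmul : ∀ (y : Fin n → F) i, (G.1 *ᵥ y) i = d i * y i.rev := by
    intro y i
    show ((Matrix.diagonal d * (Fin.revPerm : Equiv.Perm (Fin n)).permMatrix F) *ᵥ y) i = _
    rw [← mulVec_mulVec, mulVec_diagonal, Matrix.permMatrix_mulVec]
    rfl
  set h : Matrix.SpecialLinearGroup (Fin n) F :=
    Matrix.SpecialLinearGroup.transvection (show (⟨0, by omega⟩ : Fin n) ≠ ⟨n - 2, by omega⟩ by simp [Fin.ext_iff]; omega) c with hh
  refine ⟨G, h, ?_⟩
  set u := regU n F with hu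
  set H := Subgroup.closure ({u, G * u * G⁻¹, h * u * h⁻¹} : Set (Matrix.SpecialLinearGroup (Fin n) F)) with hH
  have huH : u ∈ H := Subgroup.subset_closure (by simp)
  have hvH : G * u * G⁻¹ ∈ H := Subgroup.subset_closure (by simp)
  have hwH : h * u * h⁻¹ ∈ H := Subgroup.subset_closure (by simp)
  refine eq_top_of_generators H hn u (G * u * G⁻¹) huH hvH regU_mulVec
    (fun i => if hi : i.val = 0 then 1 else d i * d ⟨i.val - 1, by omega⟩) ?_ ?_ c ?_ ?_
  · intro i
    split_ifs with hi
    · simp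
    · rw [mul_pow, hd2, hd2, one_mul]
  · intro x i
    set y : Fin n → F := fun j => d j.rev * x j.rev with hy
    have hx : G.1 *ᵥ y = x := by
      funext j
      rw [hGmul, hy]
      simp only [Fin.rev_rev]
      rw [← mul_assoc, ← pow_two, hd2, one_mul]
    have hinv : (G⁻¹ : Matrix.SpecialLinearGroup (Fin n) F).1 *ᵥ x = y := by
      rw [← hx, mulVec_mulVec, ← Matrix.SpecialLinearGroup.coe_mul, inv_mul_cancel, Matrix.SpecialLinearGroup.coe_one,
        one_mulVec]
    rw [Matrix.SpecialLinearGroup.coe_mul, Matrix.SpecialLinearGroup.coe_mul, ← mulVec_mulVec, ← mulVec_mulVec, hinv,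
      hGmul, hu, regU_mulVec, hy]
    simp only [Fin.rev_rev]
    rw [mul_add, ← mul_assoc, ← pow_two, hd2, one_mul]
    congr 1
    by_cases hi : i.val = 0
    · rw [dif_pos hi, dif_neg (by rw [Fin.val_rev]; omega), mul_zero]
    · have hr : i.rev.val + 1 < n := by rw [Fin.val_rev]; omega
      have hrr : (⟨i.rev.val + 1, hr⟩ : Fin n).rev = ⟨i.val - 1, by omega⟩ := by
        apply Fin.ext
        simp only [Fin.val_rev]
        omega
      rw [dif_neg hi, dif_pos hr, dif_neg hi, hrr]
      simp [mul_assoc]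
  · refine tv_of_transvection (show (⟨0, by omega⟩ : Fin n) ≠ ⟨n - 1, by omega⟩ by simp [Fin.ext_iff]; omega) ?_
    have e : u⁻¹ * (h * u * h⁻¹) = Matrix.SpecialLinearGroup.transvection
        (show (⟨0, by omega⟩ : Fin n) ≠ ⟨n - 1, by omega⟩ by simp [Fin.ext_iff]; omega) c := by
      rw [inv_mul_eq_iff_eq_mul, mul_inv_eq_iff_eq_mul]
      refine Cfsg.Agent.Classical.sl_ext_mulVec fun x => ?_
      simp only [Matrix.SpecialLinearGroup.coe_mul, ← mulVec_mulVec, hh, Matrix.SpecialLinearGroup.transvection_coe,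
        Cfsg.Agent.Classical.tv_mulVec]
      funext i
      simp only [hu, regU_mulVec, Pi.add_apply, Pi.single_apply, Fin.ext_iff]
      by_cases h0 : i.val = 0
      · have h1 : (⟨i.val + 1, by omega⟩ : Fin n).val ≠ 0 := by simp
        rw [if_pos h0, dif_pos (show i.val + 1 < n by omega), dif_pos (show (⟨n - 2, by omega⟩ : Fin n).val + 1 < n by simp only; omega)]
        simp only [if_neg h1, if_pos h0]
        have : (⟨n - 2 + 1, by omega⟩ : Fin n) = ⟨n - 1, by omega⟩ := Fin.ext (by simp only; omega)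
        simp [this, show n - 2 + 1 = n - 1 by omega, show ¬ (n - 1 = 0) by omega, show i.val + 1 < n by omega]
        ring
      · by_cases h2 : i.val + 1 < n
        · simp [h0, h2]
        · simp [h0, h2]
    rw [← e]
    exact H.mul_mem (H.inv_mem huH) hwH
  · intro r hr
    obtain ⟨k, hk⟩ := (mem_powers_iff_mem_zpowers (x := γ)).2 (hγ (Units.mk0 r hr / γ))
    refine ⟨k, ?_⟩
    have := congrArg (fun z : Fˣ => (z : F)) hk
    simp only [Units.val_pow_eq_pow_val, ← hc, Units.val_div_eq_div_val, Units.val_mk0] at this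
    rw [pow_succ, this, div_mul_cancel₀]
    exact γ.ne_zero

end Cfsg.Agent.RegGen
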