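import Cfsg.Agent.RegGen.Hess
import Cfsg.Agent.RegGen.Linear

/-!
A pair of regular unipotent elements `v`, `u` of SL whose product `v * u` is block triangular with a free middle
block. The point `0` is the root line, `1 … d` the middle, `d + 1` the last coordinate.
-/

set_option autoImplicit false

namespace Cfsg.Agent.RegGen

open Matrix Polynomial

variable {F : Type*} [Field F] {d : ℕ}

/-- The first row of the block matrix. -/
def rr (d : ℕ) (s : ℕ → F) (c : F) (j : ℕ) : F :=
  (if 1 ≤ j then (-1) ^ (j + 1) - s (j - 1) else 0) - if j + 2 = d then c else 0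

/-- The block triangular matrix. -/
def pairMat (d : ℕ) (s : ℕ → F) (c : F) : Matrix (Fin (d + 2)) (Fin (d + 2)) F :=
  Matrix.of fun i j =>
    if i.val = 0 then (if j.val = 0 then 1 else if j.val = d + 1 then c else rr d s c (j.val - 1))
    else if i.val = 1 then (if j.val = 0 ∨ j.val = d + 1 then 0 else s (j.val - 1))
    else if i.val = d + 1 then (if j.val = d + 1 then 1 else 0)
    else if j.val + 1 = i.val then 1 else 0

/-- The lower regular unipotent element. -/
def lowU (n : ℕ) (F : Type*) [Field F] : Matrix.SpecialLinearGroup (Fin n) F :=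
  ⟨(regU n F).1.transpose, by rw [Matrix.det_transpose]; exact (regU n F).2⟩

theorem lowU_apply (n : ℕ) (i j : Fin n) :
    (lowU n F).1 i j = if j = i then 1 else if i.val = j.val + 1 then 1 else 0 := by
  show (1 + shiftUp n F) j i = _
  rw [Matrix.add_apply, Matrix.one_apply]
  simp only [shiftUp, Matrix.of_apply]
  by_cases h : j = i
  · subst h; simp
  · rw [if_neg h, if_neg h, zero_add]

theorem lowU_mulVec (n : ℕ) (x : Fin n → F) (i : Fin n) :
    ((lowU n F).1 *ᵥ x) i = x i + if h : i.val = 0 then 0 else x ⟨i.val - 1, by omega⟩ := by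
  show ((1 + shiftUp n F).transpose *ᵥ x) i = _
  rw [Matrix.transpose_add, Matrix.transpose_one, add_mulVec, one_mulVec, Pi.add_apply]
  congr 1
  simp only [mulVec, dotProduct, shiftUp, Matrix.transpose_apply, Matrix.of_apply]
  by_cases h : i.val = 0
  · rw [dif_pos h]
    exact Finset.sum_eq_zero fun b _ => by rw [if_neg (by omega), zero_mul]
  · rw [dif_neg h, Finset.sum_eq_single (⟨i.val - 1, by omega⟩ : Fin n)]
    · rw [if_pos (by simp only; omega), one_mul]
    · intro b _ hb
      rw [if_neg (fun e => hb (Fin.ext (by simp only; omega))), zero_mul]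
    · simp

theorem pencil_identity {R : Type*} [CommRing R] (x y c : R) (hxy : x = y + 1) (e : ℕ) (s : ℕ → R)
    (hs : s (e + 1) = (-1) ^ (e + 1)) :
    y * y * (∑ j ∈ Finset.range (e + 2), (-1) ^ j * ((if j = 0 then x else 0) - s j) * x ^ (e + 1 - j) * y ^ j) +
      x * y * (∑ j ∈ Finset.range (e + 2), (-1) ^ j *
        ((if 1 ≤ j then (-1) ^ (j + 1) - s (j - 1) else 0) - if j + 2 = e + 2 then c else 0) * x ^ (e + 1 - j) * y ^ j) +
      (-1) ^ e * c * x ^ 2 * y ^ (e + 1) = y ^ (e + 4) := by
  have hP : (∑ j ∈ Finset.range (e + 2), (-1) ^ j * ((if j = 0 then x else 0) - s j) * x ^ (e + 1 - j) * y ^ j) =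
      x ^ (e + 2) - ∑ j ∈ Finset.range (e + 2), (-1) ^ j * s j * x ^ (e + 1 - j) * y ^ j := by
    simp only [mul_sub, sub_mul, Finset.sum_sub_distrib]
    congr 1
    rw [Finset.sum_eq_single 0]
    · simp [pow_succ]; ring
    · intro b _ hb; simp [hb]
    · simp
  have hH : (∑ j ∈ Finset.range (e + 2), (-1) ^ j *
        ((if 1 ≤ j then (-1) ^ (j + 1) - s (j - 1) else 0) - if j + 2 = e + 2 then c else 0) * x ^ (e + 1 - j) * y ^ j) =
      (∑ i ∈ Finset.range (e + 1), ((-1) ^ i * s i - 1) * x ^ (e - i) * y ^ (i + 1)) - (-1) ^ e * c * x * y ^ e := by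
    simp only [mul_sub, sub_mul, Finset.sum_sub_distrib]
    congr 1
    · rw [Finset.sum_range_succ']
      simp only [Nat.le_add_left, if_true, Nat.add_sub_cancel]
      rw [if_neg (by omega : ¬ (1 : ℕ) ≤ 0), mul_zero, zero_mul, zero_mul, add_zero]
      rw [← Finset.sum_sub_distrib]
      refine Finset.sum_congr rfl fun i _ => ?_
      rw [show e + 1 - (i + 1) = e - i by omega]
      have h1 : ((-1 : R) ^ i) * (-1) ^ i = 1 := by rw [← mul_pow]; simp
      simp only [pow_succ]
      linear_combination (-(x ^ (e - i) * y ^ i * y)) * h1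
    · rw [Finset.sum_eq_single e]
      · simp [show e + 1 - e = 1 by omega]
      · intro b _ hb; rw [if_neg (by omega)]; ring
      · simp
  have hg := geom_sum₂_mul y x (e + 2)
  rw [hP, hH, Finset.sum_range_succ _ (e + 1), hs]
  have h2 : ((-1 : R) ^ (e + 1)) * (-1) ^ (e + 1) = 1 := by rw [← mul_pow]; simp
  have hA : x * y * (∑ i ∈ Finset.range (e + 1), ((-1) ^ i * s i - 1) * x ^ (e - i) * y ^ (i + 1)) =
      y * y * (∑ i ∈ Finset.range (e + 1), (-1) ^ i * s i * x ^ (e + 1 - i) * y ^ i) -
      y * y * (∑ i ∈ Finset.range (e + 1), y ^ i * x ^ (e + 2 - 1 - i)) := by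
    rw [Finset.mul_sum, Finset.mul_sum, Finset.mul_sum, ← Finset.sum_sub_distrib]
    refine Finset.sum_congr rfl fun i hi => ?_
    have hi' := Finset.mem_range.1 hi
    rw [show e + 2 - 1 - i = (e - i) + 1 by omega, show e + 1 - i = (e - i) + 1 by omega, pow_succ, pow_succ]
    ring
  rw [Finset.sum_range_succ _ (e + 1), show e + 2 - 1 - (e + 1) = 0 by omega, pow_zero, mul_one] at hg
  rw [Nat.sub_self, pow_zero, mul_one, h2]
  subst hxy
  rw [mul_sub, mul_sub, hA]
  linear_combination (y * y) * hg

section Det

variable (s : ℕ → F) (c : F)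

theorem det_pencil (hd : 2 ≤ d) (hs : s (d - 1) = (-1) ^ (d + 1)) :
    (Matrix.of fun i j : Fin (d + 2) =>
      (X : F[X]) * Polynomial.C ((lowU (d + 2) F).1 i j) - Polynomial.C (pairMat d s c i j)).det = (X - 1) ^ (d + 2) := by
  obtain ⟨e, rfl⟩ : ∃ e, d = e + 2 := ⟨d - 2, by omega⟩
  set M := (Matrix.of fun i j : Fin (e + 2 + 2) =>
      (X : F[X]) * Polynomial.C ((lowU (e + 2 + 2) F).1 i j) - Polynomial.C (pairMat (e + 2) s c i j)) with hM
  have hMv : ∀ i j : Fin (e + 2 + 2), M i j =
      (X : F[X]) * Polynomial.C (if j.val = i.val then 1 else if i.val = j.val + 1 then 1 else 0) -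
        Polynomial.C (pairMat (e + 2) s c i j) := by
    intro i j
    simp only [hM, Matrix.of_apply, lowU_apply, Fin.ext_iff]
  set A := M.submatrix Fin.succ Fin.succ with hA
  set B := M.submatrix (Fin.succ (0 : Fin (e + 2 + 1))).succAbove Fin.succ with hB
  have hexp : M.det = (X - 1) * A.det - X * B.det := by
    rw [Matrix.det_succ_column M 0, Fin.sum_univ_succ, Fin.sum_univ_succ, Finset.sum_eq_zero]
    · simp only [Fin.succAbove_zero, add_zero, ← hA, ← hB]
      have e1 : M 0 0 = X - 1 := by simp [hMv, pairMat]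
      have e2 : M (Fin.succ 0) 0 = X := by simp [hMv, pairMat]
      rw [e1, e2]
      simp
      ring
    · intro i _
      have : M i.succ.succ 0 = 0 := by simp [hMv, pairMat]
      rw [this]; simp
  have hAdet : A.det = (X - 1) * ∑ j ∈ Finset.range (e + 2),
      (-1) ^ j * ((if j = 0 then (X : F[X]) else 0) - Polynomial.C (s j)) * X ^ (e + 1 - j) * (X - 1) ^ j := by
    rw [Matrix.det_succ_column A (Fin.last (e + 2)), Finset.sum_eq_single (Fin.last (e + 2))]
    · have e1 : A (Fin.last (e + 2)) (Fin.last (e + 2)) = X - 1 := by simp [hA, hMv, pairMat]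
      have e2 : A.submatrix (Fin.last (e + 2)).succAbove (Fin.last (e + 2)).succAbove =
          hess (e + 2) (X : F[X]) (X - 1) (fun j => (if j = 0 then (X : F[X]) else 0) - Polynomial.C (s j)) := by
        refine Matrix.ext fun i j => ?_
        have hi := i.isLt
        have hj := j.isLt
        simp only [hA, Matrix.submatrix_apply, Fin.succAbove_last, hMv, hess, Matrix.of_apply, pairMat,
          Fin.val_succ, Fin.val_castSucc, Fin.ext_iff]
        rcases eq_or_ne i.val 0 with h0 | h0
        · simp only [h0, zero_add]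
          by_cases hj0 : j.val = 0
          · simp [hj0]
          · simp [hj0, Ne.symm hj0, show ¬ (j.val + 1 = e + 2 + 1) by omega, show ¬ (j.val = e + 2) by omega]
        · rw [if_neg (show ¬ (i.val + 1 = 0) by omega), if_neg (show ¬ (i.val + 1 = 1) by omega),
            if_neg (show ¬ (i.val + 1 = e + 2 + 1) by omega), if_neg h0]
          by_cases h1 : j.val + 1 = i.val
          · simp [h1, show i.val ≠ j.val by omega]
          · by_cases h2 : j.val = i.val
            · simp [h1, h2]
            · simp [h1, h2, show ¬ i.val = j.val + 1 by omega]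
      rw [e1, e2, det_hess]
      simp [← two_mul]
    · intro i _ hi
      have hne : i.val ≠ e + 2 := fun h => hi (Fin.ext h)
      have : A i (Fin.last (e + 2)) = 0 := by
        simp only [hA, Matrix.submatrix_apply, hMv, pairMat, Matrix.of_apply, Fin.val_succ, Fin.val_last]
        have hi' := i.isLt
        rw [if_neg (show ¬ (e + 2 + 1 = i.val + 1) by omega), if_neg (show ¬ (i.val + 1 = e + 2 + 1 + 1) by omega),
          if_neg (show ¬ (i.val + 1 = 0) by omega)]
        by_cases h1 : i.val + 1 = 1
        · simp [h1]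
        · rw [if_neg h1, if_neg (show ¬ (i.val + 1 = e + 2 + 1) by omega),
            if_neg (show ¬ (e + 2 + 1 + 1 = i.val + 1) by omega)]
          simp
      rw [this]; simp
    · simp
  have hBdet : B.det = (X - 1) * (∑ j ∈ Finset.range (e + 2),
      (-1) ^ j * (-Polynomial.C (rr (e + 2) s c j)) * X ^ (e + 1 - j) * (X - 1) ^ j) +
      (-1) ^ e * (-Polynomial.C c) * (X * (X - 1) ^ (e + 1)) := by
    rw [Matrix.det_succ_column B (Fin.last (e + 2)),
      Finset.sum_eq_add (Fin.last (e + 2)) (0 : Fin (e + 2 + 1)) (by simp [Fin.ext_iff, -Fin.val_eq_zero_iff])]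
    · have hval : ∀ k : Fin (e + 2 + 1), ((Fin.succ (0 : Fin (e + 2 + 1))).succAbove k).val =
          if k.val = 0 then 0 else k.val + 1 := by
        intro k
        rcases eq_or_ne k.val 0 with h | h
        · rw [if_pos h, Fin.succAbove_of_castSucc_lt]
          · simpa using h
          · simp only [Fin.lt_def, Fin.val_castSucc, Fin.val_succ, Fin.val_zero]; omega
        · rw [if_neg h, Fin.succAbove_of_le_castSucc]
          · simp
          · simp only [Fin.le_def, Fin.val_castSucc, Fin.val_succ, Fin.val_zero]; omega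
      have e1 : B (Fin.last (e + 2)) (Fin.last (e + 2)) = X - 1 := by
        simp only [hB, Matrix.submatrix_apply, hMv, pairMat, Matrix.of_apply, hval, Fin.val_succ, Fin.val_last]
        simp
      have e2 : B 0 (Fin.last (e + 2)) = -Polynomial.C c := by
        simp only [hB, Matrix.submatrix_apply, hMv, pairMat, Matrix.of_apply, hval, Fin.val_succ, Fin.val_last]
        simp
      have e3 : B.submatrix (Fin.last (e + 2)).succAbove (Fin.last (e + 2)).succAbove =
          hess (e + 2) (X : F[X]) (X - 1) (fun j => -Polynomial.C (rr (e + 2) s c j)) := by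
        refine Matrix.ext fun i j => ?_
        have hi := i.isLt
        have hj := j.isLt
        simp only [hB, Matrix.submatrix_apply, Fin.succAbove_last, hMv, hess, Matrix.of_apply, pairMat,
          hval, Fin.val_succ, Fin.val_castSucc, Fin.ext_iff]
        rcases eq_or_ne i.val 0 with h0 | h0
        · simp [h0, show ¬ (j.val + 1 = e + 2 + 1) by omega, show ¬ (j.val = e + 2) by omega]
        · rw [if_neg h0, if_neg h0, if_neg (show ¬ (i.val + 1 = 0) by omega), if_neg (show ¬ (i.val + 1 = 1) by omega),
            if_neg (show ¬ (i.val + 1 = e + 2 + 1) by omega)]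
          by_cases h1 : j.val + 1 = i.val
          · simp [h1, show i.val ≠ j.val by omega]
          · by_cases h2 : j.val = i.val
            · simp [h1, h2]
            · simp [h1, h2, show ¬ i.val = j.val + 1 by omega]
      have e4 : (B.submatrix (0 : Fin (e + 2 + 1)).succAbove (Fin.last (e + 2)).succAbove).det =
          X * (X - 1) ^ (e + 1) := by
        rw [Fin.succAbove_zero, Fin.succAbove_last, Matrix.det_of_isUpperTriangular]
        · rw [Fin.prod_univ_castSucc, mul_comm]
          congr 1
          · simp only [hB, Matrix.submatrix_apply, hMv, pairMat, Matrix.of_apply, hval, Fin.val_succ, Fin.val_castSucc,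
              Fin.val_last]
            simp
          · rw [Finset.prod_congr rfl (fun i _ => ?_), Finset.prod_const, Finset.card_univ, Fintype.card_fin]
            have hi := i.isLt
            simp only [hB, Matrix.submatrix_apply, hMv, pairMat, Matrix.of_apply, hval, Fin.val_succ, Fin.val_castSucc]
            simp [show ¬ (i.val + 1 + 1 = e + 2 + 1) by omega, show i.val ≠ e + 1 by omega]
        · intro i j (hij : j < i)
          have h : j.val < i.val := hij
          have hi := i.isLt
          simp only [hB, Matrix.submatrix_apply, hMv, pairMat, Matrix.of_apply, hval, Fin.val_succ, Fin.val_castSucc]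
          rw [if_neg (show ¬ (i.val + 1 = 0) by omega), if_neg (show ¬ (j.val + 1 = i.val + 1 + 1) by omega),
            if_neg (show ¬ (i.val + 1 + 1 = j.val + 1 + 1) by omega), if_neg (show ¬ (i.val + 1 + 1 = 0) by omega),
            if_neg (show ¬ (i.val + 1 + 1 = 1) by omega)]
          by_cases hl : i.val + 1 + 1 = e + 2 + 1
          · rw [if_pos hl, if_neg (show ¬ (j.val + 1 = e + 2 + 1) by omega)]; simp
          · rw [if_neg hl, if_neg (show ¬ (j.val + 1 + 1 = i.val + 1 + 1) by omega)]; simp
      rw [e1, e2, e3, e4, det_hess]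
      simp only [Fin.val_last, Fin.val_zero, zero_add, ← two_mul, pow_mul]
      simp [pow_succ]
    · intro i _ hi
      have h1 : i.val ≠ e + 2 := fun h => hi.1 (Fin.ext h)
      have h2 : i.val ≠ 0 := fun h => hi.2 (Fin.ext h)
      have hi' := i.isLt
      have hk : ((Fin.succ (0 : Fin (e + 2 + 1))).succAbove i).val = i.val + 1 := by
        rw [Fin.succAbove_of_le_castSucc]
        · simp
        · simp only [Fin.le_def, Fin.val_castSucc, Fin.val_succ, Fin.val_zero]; omega
      have : B i (Fin.last (e + 2)) = 0 := by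
        simp only [hB, Matrix.submatrix_apply, hMv, pairMat, Matrix.of_apply, hk, Fin.val_succ, Fin.val_last]
        simp [h1, h2, show ¬ (i.val = e + 3) by omega, show ¬ (i.val + 1 = e + 2 + 1) by omega, show ¬ (e + 2 + 1 = i.val) by omega]
        omega
      rw [this]; simp
    · simp
    · simp
  have key := pencil_identity (X : F[X]) (X - 1) (Polynomial.C c) (by ring) e (fun j => Polynomial.C (s j))
    (by simp only [show e + 1 = e + 2 - 1 by omega] at *; rw [hs]; simp [pow_succ])
  rw [hexp, hAdet, hBdet, show e + 2 + 2 = e + 4 by omega, ← key]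
  have hr : ∀ j, Polynomial.C (rr (e + 2) s c j) = ((if 1 ≤ j then (-1) ^ (j + 1) - Polynomial.C (s (j - 1)) else 0) -
      if j + 2 = e + 2 then Polynomial.C c else 0) := by
    intro j
    unfold rr
    split_ifs <;> simp
  simp only [hr, mul_neg, neg_mul, Finset.sum_neg_distrib]
  ring

end Det

end Cfsg.Agent.RegGen
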