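import Cfsg.Agent.RegGen.Pair

/-!
The Krylov basis of the element `u = v⁻¹ C`: it is regular unipotent and conjugate to `v` for a suitable parameter.
-/

set_option autoImplicit false

namespace Cfsg.Agent.RegGen

open Matrix Polynomial

variable {F : Type*} [Field F] {d : ℕ}

/-- A vector as a function on the naturals. -/
def ev {m : ℕ} (y : Fin m → F) (i : ℕ) : F := if h : i < m then y ⟨i, h⟩ else 0

theorem ev_val {m : ℕ} (y : Fin m → F) (i : Fin m) : ev y i.val = y i := by
  simp only [ev, dif_pos i.isLt]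

theorem ev_mk {m : ℕ} (y : Fin m → F) (i : ℕ) (h : i < m) : ev y i = y ⟨i, h⟩ := by
  simp only [ev, dif_pos h]

theorem sum_split (f : ℕ → F) :
    (∑ i : Fin (d + 2), f i.val) = f 0 + (∑ j ∈ Finset.range d, f (j + 1)) + f (d + 1) := by
  rw [Fin.sum_univ_eq_sum_range f (d + 2), Finset.sum_range_succ f (d + 1), Finset.sum_range_succ' f d]
  ring

variable (s : ℕ → F) (c : F)

theorem pairMat_mulVec (y : Fin (d + 2) → F) (i : Fin (d + 2)) :
    (pairMat d s c *ᵥ y) i =
      if i.val = 0 then ev y 0 + (∑ j ∈ Finset.range d, rr d s c j * ev y (j + 1)) + c * ev y (d + 1)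
      else if i.val = 1 then ∑ j ∈ Finset.range d, s j * ev y (j + 1)
      else if i.val = d + 1 then ev y (d + 1) else ev y (i.val - 1) := by
  have hs : (pairMat d s c *ᵥ y) i = ∑ j : Fin (d + 2), pairMat d s c i j * ev y j.val := by
    simp only [mulVec, dotProduct, ev_val]
  rw [hs]
  have hi := i.isLt
  by_cases h0 : i.val = 0
  · rw [if_pos h0]
    refine Eq.trans (Finset.sum_congr rfl fun j _ => ?_) (Eq.trans
      (sum_split (d := d) (fun k : ℕ => (if k = 0 then 1 else if k = d + 1 then c else rr d s c (k - 1)) * ev y k)) ?_)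
    · simp only [pairMat, Matrix.of_apply, if_pos h0]
    simp only [if_true, one_mul, Nat.add_one_ne_zero, if_false]
    refine congrArg₂ (· + ·) (congrArg (_ + ·) (Finset.sum_congr rfl fun j hj => ?_)) rfl
    have := Finset.mem_range.1 hj
    rw [if_neg (by omega), Nat.add_sub_cancel]
  rw [if_neg h0]
  by_cases h1 : i.val = 1
  · rw [if_pos h1]
    refine Eq.trans (Finset.sum_congr rfl fun j _ => ?_) (Eq.trans
      (sum_split (d := d) (fun k : ℕ => (if k = 0 ∨ k = d + 1 then 0 else s (k - 1)) * ev y k)) ?_)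
    · simp only [pairMat, Matrix.of_apply, if_neg h0, if_pos h1]
    simp only [true_or, or_true, if_true, zero_mul, zero_add, add_zero]
    refine Finset.sum_congr rfl fun j hj => ?_
    have := Finset.mem_range.1 hj
    rw [if_neg (by omega), Nat.add_sub_cancel]
  rw [if_neg h1]
  by_cases hl : i.val = d + 1
  · rw [if_pos hl, Finset.sum_eq_single (Fin.last (d + 1))]
    · simp only [pairMat, Matrix.of_apply, if_neg h0, if_neg h1, if_pos hl, Fin.val_last, if_true, one_mul]
    · intro b _ hb
      have : b.val ≠ d + 1 := fun h => hb (Fin.ext h)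
      simp only [pairMat, Matrix.of_apply, if_neg h0, if_neg h1, if_pos hl, if_neg this, zero_mul]
    · simp
  · rw [if_neg hl, Finset.sum_eq_single (⟨i.val - 1, by omega⟩ : Fin (d + 2))]
    · simp only [pairMat, Matrix.of_apply, if_neg h0, if_neg h1, if_neg hl]
      rw [if_pos (by omega), one_mul]
    · intro b _ hb
      have : ¬ (b.val + 1 = i.val) := fun h => hb (Fin.ext (by simp only; omega))
      simp only [pairMat, Matrix.of_apply, if_neg h0, if_neg h1, if_neg hl, if_neg this, zero_mul]
    · simp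

theorem lowU_mulVec_ev (n : ℕ) (y : Fin n → F) (i : Fin n) :
    ((lowU n F).1 *ᵥ y) i = ev y i.val + if i.val = 0 then 0 else ev y (i.val - 1) := by
  rw [lowU_mulVec, ev_val]
  by_cases h : i.val = 0
  · rw [dif_pos h, if_pos h]
  · rw [dif_neg h, if_neg h, ev_mk y (i.val - 1) (by omega)]

section WithHyp

variable (hd : 2 ≤ d) (hs : s (d - 1) = (-1) ^ (d + 1))

include hd hs in
theorem det_pairMat : (pairMat d s c).det = 1 := by
  have h := congrArg (Polynomial.evalRingHom (0 : F)) (det_pencil s c hd hs)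
  rw [RingHom.map_det, map_pow, map_sub, map_one] at h
  have e : ((Polynomial.evalRingHom (0 : F)).mapMatrix (Matrix.of fun i j : Fin (d + 2) =>
      (X : F[X]) * Polynomial.C ((lowU (d + 2) F).1 i j) - Polynomial.C (pairMat d s c i j))) = -pairMat d s c := by
    refine Matrix.ext fun i j => ?_
    simp
  rw [e, Matrix.det_neg, Fintype.card_fin] at h
  simp only [Polynomial.coe_evalRingHom, Polynomial.eval_X, zero_sub] at h
  have h1 : ((-1 : F) ^ (d + 2)) * (-1) ^ (d + 2) = 1 := by rw [← mul_pow]; simp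
  linear_combination ((-1 : F) ^ (d + 2)) * h + (1 - (pairMat d s c).det) * h1

/-- The block element of SL. -/
def pairC : Matrix.SpecialLinearGroup (Fin (d + 2)) F := ⟨pairMat d s c, det_pairMat s c hd hs⟩

/-- The second regular unipotent element. -/
def pairU : Matrix.SpecialLinearGroup (Fin (d + 2)) F := (lowU (d + 2) F)⁻¹ * pairC s c hd hs

/-- Its nilpotent part. -/
def pairN : Matrix (Fin (d + 2)) (Fin (d + 2)) F := (pairU s c hd hs).1 - 1

theorem lowU_mul_pairU : (lowU (d + 2) F).1 * (pairU s c hd hs).1 = pairMat d s c := by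
  rw [← Matrix.SpecialLinearGroup.coe_mul, pairU, mul_inv_cancel_left]
  rfl

theorem charpoly_pairU : (pairU s c hd hs).1.charpoly = (X - 1) ^ (d + 2) := by
  have hv : ((Polynomial.C : F →+* F[X]).mapMatrix (lowU (d + 2) F).1).det = 1 := by
    rw [← RingHom.map_det, (lowU (d + 2) F).2, map_one]
  rw [← det_pencil s c hd hs, ← one_mul ((pairU s c hd hs).1.charpoly), ← hv, Matrix.charpoly, ← Matrix.det_mul]
  congr 1
  have e : (Polynomial.C : F →+* F[X]).mapMatrix (lowU (d + 2) F).1 * (Polynomial.C : F →+* F[X]).mapMatrix (pairU s c hd hs).1 =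
      (Polynomial.C : F →+* F[X]).mapMatrix (pairMat d s c) := by
    rw [← map_mul, lowU_mul_pairU]
  rw [Matrix.charmatrix, mul_sub, e]
  refine Matrix.ext fun i j => ?_
  rw [Matrix.sub_apply, Matrix.of_apply, Matrix.scalar_apply, Matrix.mul_diagonal]
  simp only [RingHom.mapMatrix_apply, Matrix.map_apply]
  ring

theorem pairN_pow : pairN s c hd hs ^ (d + 2) = 0 := by
  have h := Matrix.aeval_self_charpoly (pairU s c hd hs).1
  rw [charpoly_pairU, map_pow, map_sub, Polynomial.aeval_X, map_one] at h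
  exact h

theorem isNilpotent_pairU : IsNilpotent ((pairU s c hd hs).1 - 1) := ⟨d + 2, pairN_pow s c hd hs⟩

end WithHyp

/-- `y' = N y` in coordinates. -/
structure Step (d : ℕ) (s : ℕ → F) (c : F) (y y' : ℕ → F) : Prop where
  e0 : y' 0 = (∑ j ∈ Finset.range d, rr d s c j * y (j + 1)) + c * y (d + 1)
  e1 : y' 1 + y' 0 = (∑ j ∈ Finset.range d, s j * y (j + 1)) - y 1 - y 0
  mid : ∀ i, 2 ≤ i → i ≤ d → y' i + y' (i - 1) = - y i
  last : y' (d + 1) + y' d = - y d

theorem step_pairN (hd : 2 ≤ d) (hs : s (d - 1) = (-1) ^ (d + 1)) (y : Fin (d + 2) → F) :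
    Step d s c (ev y) (ev (pairN s c hd hs *ᵥ y)) := by
  set z := pairN s c hd hs *ᵥ y with hz
  have h : ∀ i : Fin (d + 2), ((lowU (d + 2) F).1 *ᵥ z) i =
      (pairMat d s c *ᵥ y) i - ((lowU (d + 2) F).1 *ᵥ y) i := by
    intro i
    rw [hz, mulVec_mulVec, pairN, mul_sub, mul_one, lowU_mul_pairU, sub_mulVec, Pi.sub_apply]
  simp only [lowU_mulVec_ev, pairMat_mulVec] at h
  refine ⟨?_, ?_, ?_, ?_⟩
  · have := h ⟨0, by omega⟩
    simp only [if_true, add_zero] at this
    rw [this]; ring
  · have := h ⟨1, by omega⟩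
    simp only [one_ne_zero, if_false, if_true, Nat.sub_self] at this
    rw [this]; ring
  · intro i hi hid
    have := h ⟨i, by omega⟩
    simp only [if_neg (show i ≠ 0 by omega), if_neg (show i ≠ 1 by omega), if_neg (show i ≠ d + 1 by omega)] at this
    rw [this]; ring
  · have := h ⟨d + 1, by omega⟩
    simp only [if_neg (show d + 1 ≠ 0 by omega), if_neg (show d + 1 ≠ 1 by omega), if_true, Nat.add_sub_cancel] at this
    rw [this]; ring

/-- The functional giving the coordinate `d` after one step. -/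
def gfun (d : ℕ) (s : ℕ → F) (c : F) (z : ℕ → F) : F :=
  z 0 + z 1 + c * (z (d + 1) - z (d - 1)) - (∑ i ∈ Finset.range (d - 1), s i * (z (i + 1) + z (i + 2))) -
    s (d - 1) * z d

variable {s c}

theorem Step.last_eq {y y' : ℕ → F} (h : Step d s c y y') (hd : 2 ≤ d) : y' (d + 1) = y' (d - 1) := by
  have h1 := h.mid d hd le_rfl
  have h2 := h.last
  linear_combination h2 - h1

theorem Step.gfun_eq {y y' : ℕ → F} (h : Step d s c y y') (hd : 2 ≤ d) :
    (-1) ^ d * y' d = gfun d s c y := by
  have key : ∀ t, t < d → (-1) ^ (t + 1) * y' (t + 1) =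
      y' 0 - (y' 1 + y' 0) + ∑ j ∈ Finset.range t, (-1) ^ (j + 1) * y (j + 2) := by
    intro t
    induction t with
    | zero => intro _; simp
    | succ t ih =>
      intro ht
      have h1 := ih (by omega)
      have h2 := h.mid (t + 2) (by omega) (by omega)
      rw [show t + 2 - 1 = t + 1 by omega] at h2
      rw [Finset.sum_range_succ]
      linear_combination h1 + ((-1 : F) ^ (t + 2)) * h2
  obtain ⟨e, rfl⟩ : ∃ e, d = e + 2 := ⟨d - 2, by omega⟩
  rw [key (e + 1) (by omega), h.e1, h.e0]
  simp only [gfun, show e + 2 - 1 = e + 1 by omega]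
  have hr : (∑ j ∈ Finset.range (e + 2), rr (e + 2) s c j * y (j + 1)) =
      (∑ i ∈ Finset.range (e + 1), ((-1) ^ i - s i) * y (i + 2)) - c * y (e + 1) := by
    simp only [rr, sub_mul, Finset.sum_sub_distrib]
    congr 1
    · rw [Finset.sum_range_succ']
      simp only [Nat.le_add_left, if_true, Nat.add_sub_cancel, show ¬ (1 : ℕ) ≤ 0 by omega, if_false, zero_mul,
        add_zero]
      rw [← Finset.sum_sub_distrib]
      refine Finset.sum_congr rfl fun i _ => ?_
      rw [show i + 1 + 1 = i + 2 from rfl, pow_add, neg_one_sq, mul_one, sub_mul]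
    · rw [Finset.sum_eq_single e]
      · rw [if_pos rfl]
      · intro b _ hb; rw [if_neg (by omega), zero_mul]
      · simp
  rw [hr, Finset.sum_range_succ (fun j => s j * y (j + 1)) (e + 1)]
  simp only [mul_add, sub_mul, Finset.sum_sub_distrib, Finset.sum_add_distrib, pow_succ, neg_mul, mul_neg, mul_one,
    Finset.sum_neg_distrib]
  ring

theorem Step.gfun_next {z y : ℕ → F} (h : Step d s c z y) (hd : 2 ≤ d) (hs : s (d - 1) = (-1) ^ (d + 1)) :
    gfun d s c y = c * (z (d + 1) - z (d - 1)) := by
  have hy := h.gfun_eq hd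
  have hl := h.last_eq hd
  have h1 := h.e1
  have hsum : (∑ i ∈ Finset.range (d - 1), s i * (y (i + 1) + y (i + 2))) =
      -(∑ i ∈ Finset.range (d - 1), s i * z (i + 2)) := by
    rw [← Finset.sum_neg_distrib]
    refine Finset.sum_congr rfl fun i hi => ?_
    have := Finset.mem_range.1 hi
    have h2 := h.mid (i + 2) (by omega) (by omega)
    rw [show i + 2 - 1 = i + 1 by omega] at h2
    linear_combination (s i) * h2
  have hd1 : (∑ j ∈ Finset.range d, s j * z (j + 1)) =
      (∑ i ∈ Finset.range (d - 1), s i * z (i + 1)) + s (d - 1) * z d := by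
    obtain ⟨e, rfl⟩ : ∃ e, d = e + 1 := ⟨d - 1, by omega⟩
    rw [Nat.add_sub_cancel, Finset.sum_range_succ]
  simp only [gfun] at hy ⊢
  rw [hl, hsum]
  simp only [mul_add, Finset.sum_add_distrib] at hy
  rw [hd1] at h1
  rw [hs] at hy h1 ⊢
  have hsq : ((-1 : F) ^ d) * (-1) ^ d = 1 := by rw [← mul_pow]; simp
  rw [pow_succ] at hy h1 ⊢
  linear_combination h1 + hy

section Krylov

variable (s c) (hd : 2 ≤ d) (hs : s (d - 1) = (-1) ^ (d + 1))

/-- The Krylov sequence of the last coordinate vector. -/
def kv (k : ℕ) : Fin (d + 2) → F := (pairN s c hd hs ^ k) *ᵥ Pi.single (Fin.last (d + 1)) 1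

theorem kv_succ (k : ℕ) : kv s c hd hs (k + 1) = pairN s c hd hs *ᵥ kv s c hd hs k := by
  rw [kv, kv, pow_succ', mulVec_mulVec]

theorem step_kv (k : ℕ) : Step d s c (ev (kv s c hd hs k)) (ev (kv s c hd hs (k + 1))) := by
  rw [kv_succ]
  exact step_pairN s c hd hs _

theorem kv_zero (i : ℕ) (hi : i < d + 2) : ev (kv s c hd hs 0) i = if i = d + 1 then 1 else 0 := by
  rw [ev_mk _ i hi, kv, pow_zero, one_mulVec, Pi.single_apply]
  simp [Fin.ext_iff]

theorem kv_top : kv s c hd hs (d + 2) = 0 := by
  rw [kv, pairN_pow, zero_mulVec]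

theorem kv_one : ∀ i, i ≤ d + 1 → ev (kv s c hd hs 1) i = (-1) ^ i * c := by
  have h := step_kv s c hd hs 0
  rw [zero_add] at h
  have hz : ∀ j ∈ Finset.range d, ev (kv s c hd hs 0) (j + 1) = 0 := fun j hj => by
    have := Finset.mem_range.1 hj
    rw [kv_zero s c hd hs _ (by omega), if_neg (by omega)]
  intro i
  induction i with
  | zero =>
    intro _
    rw [h.e0, Finset.sum_eq_zero (fun j hj => by rw [hz j hj, mul_zero]), kv_zero s c hd hs _ (by omega), if_pos rfl]
    ring
  | succ i ih =>
    intro hi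
    have h1 := ih (by omega)
    rcases Nat.eq_zero_or_pos i with rfl | hpos
    · have h2 := h.e1
      rw [Finset.sum_eq_zero (fun j hj => by rw [hz j hj, mul_zero]), kv_zero s c hd hs 1 (by omega),
        kv_zero s c hd hs 0 (by omega), if_neg (by omega), if_neg (by omega)] at h2
      linear_combination h2 - h1
    · by_cases hid : i + 1 ≤ d
      · have h2 := h.mid (i + 1) (by omega) hid
        rw [Nat.add_sub_cancel, kv_zero s c hd hs (i + 1) (by omega), if_neg (by omega)] at h2
        linear_combination h2 - h1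
      · obtain rfl : i = d := by omega
        have h2 := h.last
        rw [kv_zero s c hd hs i (by omega), if_neg (by omega)] at h2
        linear_combination h2 - h1

theorem kv_image_last (k : ℕ) (hk : 1 ≤ k) :
    ev (kv s c hd hs k) (d + 1) = ev (kv s c hd hs k) (d - 1) := by
  obtain ⟨j, rfl⟩ : ∃ j, k = j + 1 := ⟨k - 1, by omega⟩
  exact (step_kv s c hd hs j).last_eq hd

theorem kv_top_coord (k : ℕ) (hk : 2 ≤ k) :
    (-1) ^ d * ev (kv s c hd hs k) d = if k = 2 then c else 0 := by
  obtain ⟨j, rfl⟩ : ∃ j, k = j + 1 + 1 := ⟨k - 2, by omega⟩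
  rw [(step_kv s c hd hs (j + 1)).gfun_eq hd, (step_kv s c hd hs j).gfun_next hd hs]
  rcases Nat.eq_zero_or_pos j with rfl | hj
  · rw [kv_zero s c hd hs _ (by omega), kv_zero s c hd hs _ (by omega), if_pos rfl, if_neg (by omega), if_pos rfl]
    ring
  · rw [kv_image_last s c hd hs j hj, sub_self, mul_zero, if_neg (by omega)]

/-- The triangular shape of the Krylov vectors. -/
theorem kv_pattern (k : ℕ) (hk : 2 ≤ k) (hkd : k ≤ d + 1) :
    (∀ i, d + 2 - k < i → i ≤ d → ev (kv s c hd hs k) i = 0) ∧
      ev (kv s c hd hs k) (d + 2 - k) = (-1) ^ (d + k) * c := by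
  induction k with
  | zero => omega
  | succ k ih =>
    rcases Nat.lt_or_ge k 2 with hk2 | hk2
    · obtain rfl : k = 1 := by omega
      refine ⟨fun i hi hid => by omega, ?_⟩
      rw [show d + 2 - (1 + 1) = d by omega]
      have h := kv_top_coord s c hd hs (1 + 1) le_rfl
      rw [if_pos rfl] at h
      have hsq : ((-1 : F) ^ d) * (-1) ^ d = 1 := by rw [← mul_pow]; simp
      rw [pow_add, neg_one_sq, mul_one]
      linear_combination ((-1 : F) ^ d) * h - (ev (kv s c hd hs (1 + 1)) d) * hsq
    · obtain ⟨hz, hp⟩ := ih hk2 (by omega)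
      have h := step_kv s c hd hs k
      have hsq : ((-1 : F) ^ d) * (-1) ^ d = 1 := by rw [← mul_pow]; simp
      have htop : ev (kv s c hd hs (k + 1)) d = 0 := by
        have h1 := kv_top_coord s c hd hs (k + 1) hk
        rw [if_neg (by omega)] at h1
        linear_combination ((-1 : F) ^ d) * h1 - (ev (kv s c hd hs (k + 1)) d) * hsq
      have hzero : ∀ t, t ≤ k - 2 → ev (kv s c hd hs (k + 1)) (d - t) = 0 := by
        intro t
        induction t with
        | zero => intro _; exact htop
        | succ t iht =>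
          intro ht
          have h2 := iht (by omega)
          have h3 := h.mid (d - t) (by omega) (by omega)
          rw [show d - t - 1 = d - (t + 1) by omega, h2, hz (d - t) (by omega) (by omega)] at h3
          linear_combination h3
      refine ⟨fun i hi hid => ?_, ?_⟩
      · have := hzero (d - i) (by omega)
        rwa [show d - (d - i) = i by omega] at this
      · have h3 := h.mid (d + 2 - k) (by omega) (by omega)
        have h4 := hzero (k - 2) le_rfl
        rw [show d - (k - 2) = d + 2 - k by omega] at h4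
        rw [show d + 2 - k - 1 = d + 2 - (k + 1) by omega, hp, h4] at h3
        rw [show d + (k + 1) = d + k + 1 by omega, pow_succ]
        linear_combination h3

theorem pairU_pow_ne (hc : c ≠ 0) : ((pairU s c hd hs).1 - 1) ^ (d + 2 - 1) ≠ 0 := by
  intro h
  have h1 := (kv_pattern s c hd hs (d + 1) (by omega) le_rfl).2
  have h2 : kv s c hd hs (d + 1) = 0 := by
    have h3 : pairN s c hd hs ^ (d + 1) = 0 := by rw [pairN]; exact h
    rw [kv, h3, zero_mulVec]
  rw [h2] at h1
  simp [ev, hc, show d + 2 - (d + 1) = 1 by omega] at h1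

/-- The coefficients of the functional vanishing on the square of the image. -/
def tvec (d : ℕ) (s : ℕ → F) (c : F) (i : ℕ) : F :=
  if i = 0 then -c⁻¹ else if i = 1 ∨ i = d + 1 then 0 else -c⁻¹ * rr d s c (i - 1) - if i + 1 = d then 1 else 0

/-- That functional. -/
def psiF (y : Fin (d + 2) → F) : F :=
  ∑ i : Fin (d + 2), tvec d s c i.val * ((lowU (d + 2) F).1 *ᵥ y) i

theorem psiF_eq (hd1 : 1 ≤ d) (y : Fin (d + 2) → F) :
    psiF s c y = -c⁻¹ * ev y 0 + ∑ j ∈ Finset.range (d - 1), tvec d s c (j + 2) * (ev y (j + 2) + ev y (j + 1)) := by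
  obtain ⟨e, rfl⟩ : ∃ e, d = e + 1 := ⟨d - 1, by omega⟩
  simp only [psiF, lowU_mulVec_ev]
  rw [sum_split (fun i => tvec (e + 1) s c i * (ev y i + if i = 0 then 0 else ev y (i - 1))), Finset.sum_range_succ']
  simp only [tvec, if_true, Nat.add_one_ne_zero, if_false, Nat.add_sub_cancel]
  simp

theorem psiF_kv_succ (hc : c ≠ 0) (k : ℕ) :
    psiF s c (kv s c hd hs (k + 1)) = ev (kv s c hd hs k) (d - 1) - ev (kv s c hd hs k) (d + 1) := by
  have h := step_kv s c hd hs k
  set y := ev (kv s c hd hs k) with hy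
  rw [psiF_eq s c (by omega), h.e0]
  obtain ⟨e, rfl⟩ : ∃ e, d = e + 2 := ⟨d - 2, by omega⟩
  simp only [show e + 2 - 1 = e + 1 by omega]
  rw [Finset.sum_range_succ' (fun j => rr (e + 2) s c j * y (j + 1))]
  have hsum : (∑ j ∈ Finset.range (e + 1), tvec (e + 2) s c (j + 2) *
      (ev (kv s c hd hs (k + 1)) (j + 2) + ev (kv s c hd hs (k + 1)) (j + 1))) =
      (∑ j ∈ Finset.range (e + 1), (c⁻¹ * rr (e + 2) s c (j + 1) + if j + 3 = e + 2 then 1 else 0) * y (j + 2)) := by
    refine Finset.sum_congr rfl fun j hj => ?_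
    have := Finset.mem_range.1 hj
    have h2 := h.mid (j + 2) (by omega) (by omega)
    rw [show j + 2 - 1 = j + 1 by omega] at h2
    rw [h2]
    simp only [tvec, if_neg (show ¬ (j + 2 = 0) by omega), if_neg (show ¬ (j + 2 = 1 ∨ j + 2 = e + 2 + 1) by omega),
      show j + 2 - 1 = j + 1 by omega]
    ring
  rw [hsum]
  simp only [add_mul, Finset.sum_add_distrib, mul_assoc]
  rw [← Finset.mul_sum]
  have hd' : (∑ j ∈ Finset.range (e + 1), (if j + 3 = e + 2 then (1 : F) else 0) * y (j + 2)) =
      if e = 0 then 0 else y (e + 1) := by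
    by_cases he : e = 0
    · rw [if_pos he]
      refine Finset.sum_eq_zero fun j _ => ?_
      rw [if_neg (by omega), zero_mul]
    · rw [if_neg he, Finset.sum_eq_single (e - 1)]
      · rw [if_pos (by omega), one_mul, show e - 1 + 2 = e + 1 by omega]
      · intro b _ hb; rw [if_neg (by omega), zero_mul]
      · simp
  have hr0 : rr (e + 2) s c 0 = if e = 0 then -c else 0 := by
    by_cases he : e = 0
    · subst he; simp [rr]
    · simp [rr, he, Ne.symm he]
  rw [hd', hr0, zero_add]
  by_cases he : e = 0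
  · subst he; simp only [if_true, zero_add]; field_simp; ring
  · simp only [if_neg he]; field_simp; ring

/-- The Krylov matrix. -/
def kmat : Matrix (Fin (d + 2)) (Fin (d + 2)) F := Matrix.of fun i k => kv s c hd hs k.val i

/-- The sign in the determinant of the Krylov matrix. -/
def esign (d : ℕ) (F : Type*) [Field F] : F :=
  ((Equiv.Perm.sign (Equiv.swap (0 : Fin (d + 2)) (Fin.last (d + 1))) : ℤ) : F) *
    ((Equiv.Perm.sign (Equiv.neg (Fin (d + 2))) : ℤ) : F) *
    ∏ p : Fin (d + 2), (if p.val = 0 ∨ p.val = d + 1 then 1 else (-1) ^ p.val)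

theorem esign_sq : esign d F * esign d F = 1 := by
  have key : ∀ u : ℤˣ, ((u : ℤ) : F) * ((u : ℤ) : F) = 1 := fun u => by
    rcases Int.units_eq_one_or u with h | h <;> simp [h]
  have h3 : (∏ p : Fin (d + 2), (if p.val = 0 ∨ p.val = d + 1 then (1 : F) else (-1) ^ p.val)) *
      (∏ p : Fin (d + 2), (if p.val = 0 ∨ p.val = d + 1 then (1 : F) else (-1) ^ p.val)) = 1 := by
    rw [← Finset.prod_mul_distrib]
    refine Finset.prod_eq_one fun p _ => ?_
    split_ifs
    · rw [one_mul]
    · rw [← mul_pow]; simp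
  have e : esign d F * esign d F =
      (((Equiv.Perm.sign (Equiv.swap (0 : Fin (d + 2)) (Fin.last (d + 1))) : ℤ) : F) *
        ((Equiv.Perm.sign (Equiv.swap (0 : Fin (d + 2)) (Fin.last (d + 1))) : ℤ) : F)) *
      (((Equiv.Perm.sign (Equiv.neg (Fin (d + 2))) : ℤ) : F) * ((Equiv.Perm.sign (Equiv.neg (Fin (d + 2))) : ℤ) : F)) *
      ((∏ p : Fin (d + 2), (if p.val = 0 ∨ p.val = d + 1 then (1 : F) else (-1) ^ p.val)) *
      (∏ p : Fin (d + 2), (if p.val = 0 ∨ p.val = d + 1 then (1 : F) else (-1) ^ p.val))) := by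
    simp only [esign]; ring
  rw [e, key, key, h3]; ring

theorem val_neg_fin (q : Fin (d + 2)) : (-q).val = if q.val = 0 then 0 else d + 2 - q.val := by
  rw [Fin.val_neg']
  have := q.isLt
  split_ifs with h
  · simp [h]
  · rw [Nat.mod_eq_of_lt (by omega)]

theorem det_kmat (hc : c ≠ 0) : (kmat s c hd hs).det = esign d F * c ^ (d + 1) := by
  set ψ : Fin (d + 2) → F := fun i => psiF s c (Pi.single i 1) with hψ
  set T : Matrix (Fin (d + 2)) (Fin (d + 2)) F := (1 : Matrix (Fin (d + 2)) (Fin (d + 2)) F).updateRow 0 ψ with hT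
  have hlin : ∀ y : Fin (d + 2) → F, ψ ⬝ᵥ y = psiF s c y := by
    intro y
    have : ∀ y, psiF s c y = ((fun i : Fin (d + 2) => tvec d s c i.val) ᵥ* (lowU (d + 2) F).1) ⬝ᵥ y := fun y => by
      rw [← dotProduct_mulVec]; rfl
    rw [this, hψ]
    simp only [this, dotProduct_single_one]
  have hψ0 : ψ 0 = -c⁻¹ := by
    show psiF s c (Pi.single 0 1) = _
    rw [psiF_eq s c (by omega), Finset.sum_eq_zero, add_zero, ev_mk _ 0 (by omega)]
    · simp
    · intro j hj
      have hj' := Finset.mem_range.1 hj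
      rw [ev_mk _ (j + 2) (by omega), ev_mk _ (j + 1) (by omega)]
      rw [Pi.single_eq_of_ne (Fin.ne_of_val_ne (by simp)), Pi.single_eq_of_ne (Fin.ne_of_val_ne (by simp))]
      simp
  have hdetT : T.det = -c⁻¹ := by
    rw [hT, Matrix.det_of_isUpperTriangular]
    · rw [Finset.prod_eq_single (0 : Fin (d + 2))]
      · rw [Matrix.updateRow_self, hψ0]
      · intro b _ hb; rw [Matrix.updateRow_ne hb, Matrix.one_apply_eq]
      · simp
    · intro i j (hij : j < i)
      have : i ≠ 0 := fun h => by subst h; exact absurd hij (Fin.not_lt_zero _)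
      rw [Matrix.updateRow_ne this, Matrix.one_apply_ne (ne_of_gt hij)]
  have hTM : ∀ i k, (T * kmat s c hd hs) i k = if i = 0 then psiF s c (kv s c hd hs k.val) else kv s c hd hs k.val i := by
    intro i k
    rw [Matrix.mul_apply]
    by_cases hi : i = 0
    · subst hi
      rw [if_pos rfl, ← hlin]
      simp only [hT, Matrix.updateRow_self, kmat, Matrix.of_apply, dotProduct]
    · rw [if_neg hi]
      simp only [hT, Matrix.updateRow_ne hi, Matrix.one_apply, kmat, Matrix.of_apply, ite_mul, one_mul, zero_mul]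
      simp
  set σ := Equiv.swap (0 : Fin (d + 2)) (Fin.last (d + 1)) with hσ
  set Mp := ((T * kmat s c hd hs).submatrix σ id).submatrix id (Equiv.neg (Fin (d + 2))) with hMp
  have hentry : ∀ p q, Mp p q = if σ p = 0 then psiF s c (kv s c hd hs (-q).val) else kv s c hd hs (-q).val (σ p) := by
    intro p q
    simp only [hMp, Matrix.submatrix_apply, id_eq, Equiv.neg_apply, hTM]
  have hσv : ∀ p : Fin (d + 2), p.val ≠ 0 → p.val ≠ d + 1 → σ p = p := fun p h1 h2 =>
    Equiv.swap_apply_of_ne_of_ne (fun h => h1 (by rw [h]; rfl)) (fun h => h2 (by rw [h]; rfl))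
  have hψ0k : psiF s c (kv s c hd hs 0) = 0 := by
    rw [← hlin, kv, pow_zero, one_mulVec, dotProduct_single_one]
    show psiF s c (Pi.single (Fin.last (d + 1)) 1) = 0
    rw [psiF_eq s c (by omega), Finset.sum_eq_zero, add_zero, ev_mk _ 0 (by omega)]
    · rw [Pi.single_eq_of_ne (Fin.ne_of_val_ne (by simp)), mul_zero]
    · intro j hj
      have hj' := Finset.mem_range.1 hj
      rw [ev_mk _ (j + 2) (by omega), ev_mk _ (j + 1) (by omega)]
      rw [Pi.single_eq_of_ne (Fin.ne_of_val_ne (by simp; omega)), Pi.single_eq_of_ne (Fin.ne_of_val_ne (by simp; omega))]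
      simp
  have hdetMp : Mp.det = -(∏ p : Fin (d + 2), (if p.val = 0 ∨ p.val = d + 1 then (1 : F) else (-1) ^ p.val)) * c ^ d := by
    rw [Matrix.det_of_isUpperTriangular]
    · have hdiag : ∀ p, Mp p p = (if p.val = 0 ∨ p.val = d + 1 then (1 : F) else (-1) ^ p.val) *
          ((if p.val = d + 1 then (-1 : F) else 1) * if p.val = 0 ∨ p.val = d + 1 then 1 else c) := by
        intro p
        rw [hentry]
        by_cases h0 : p.val = 0
        · have hp : p = 0 := Fin.ext h0
          subst hp
          rw [hσ, Equiv.swap_apply_left, if_neg (Fin.ne_of_val_ne (by simp)), val_neg_fin, if_pos h0,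
            ← ev_val (kv s c hd hs 0), kv_zero s c hd hs _ (Fin.isLt _)]
          simp
        by_cases hl : p.val = d + 1
        · have hp : p = Fin.last (d + 1) := Fin.ext hl
          subst hp
          rw [hσ, Equiv.swap_apply_right, if_pos rfl, val_neg_fin, if_neg h0,
            show d + 2 - (Fin.last (d + 1)).val = 0 + 1 by simp, psiF_kv_succ s c hd hs hc,
            kv_zero s c hd hs _ (by omega), kv_zero s c hd hs _ (by omega)]
          simp [show ¬ (d - 1 = d + 1) by omega]
        · rw [hσv p h0 hl, if_neg (Fin.ne_of_val_ne h0), val_neg_fin, if_neg h0, ← ev_val (kv s c hd hs _) p]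
          have h2 := p.isLt
          have h3 := (kv_pattern s c hd hs (d + 2 - p.val) (by omega) (by omega)).2
          rw [show d + 2 - (d + 2 - p.val) = p.val by omega] at h3
          rw [h3, if_neg (by omega : ¬ (p.val = 0 ∨ p.val = d + 1)), if_neg hl,
            if_neg (by omega : ¬ (p.val = 0 ∨ p.val = d + 1)), one_mul]
          congr 1
          rw [show d + (d + 2 - p.val) = p.val + 2 * (d + 1 - p.val) by omega, pow_add, pow_mul, neg_one_sq, one_pow,
            mul_one]
      have hone : (∏ p : Fin (d + 2), if p.val = d + 1 then (-1 : F) else 1) = -1 := by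
        rw [Finset.prod_eq_single (Fin.last (d + 1))]
        · simp
        · intro b _ hb
          rw [if_neg (fun h => hb (Fin.ext (h.trans (Fin.val_last (d + 1)).symm)))]
        · simp
      have hcount : (∏ p : Fin (d + 2), if p.val = 0 ∨ p.val = d + 1 then (1 : F) else c) = c ^ d := by
        rw [show (∏ p : Fin (d + 2), if p.val = 0 ∨ p.val = d + 1 then (1 : F) else c) =
          ∏ p : Fin (d + 2), (fun k : ℕ => if k = 0 ∨ k = d + 1 then (1 : F) else c) p.val from rfl,
          Fin.prod_univ_eq_prod_range (fun k : ℕ => if k = 0 ∨ k = d + 1 then (1 : F) else c) (d + 2),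
          Finset.prod_range_succ, Finset.prod_range_succ']
        simp only [true_or, or_true, if_true, mul_one]
        rw [Finset.prod_congr rfl (g := fun _ => c) (fun k hk => if_neg (by have := Finset.mem_range.1 hk; omega)),
          Finset.prod_const, Finset.card_range]
      rw [Finset.prod_congr rfl (fun p _ => hdiag p), Finset.prod_mul_distrib, Finset.prod_mul_distrib, hone, hcount]
      ring
    · intro p q (hqp : q < p)
      have hlt : q.val < p.val := hqp
      have hp2 := p.isLt
      rw [hentry, val_neg_fin]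
      by_cases hl : p.val = d + 1
      · have hp : p = Fin.last (d + 1) := Fin.ext hl
        rw [hp, hσ, Equiv.swap_apply_right, if_pos rfl]
        by_cases hq : q.val = 0
        · rw [if_pos hq, hψ0k]
        · rw [if_neg hq, show d + 2 - q.val = (d + 1 - q.val) + 1 by omega, psiF_kv_succ s c hd hs hc,
            kv_image_last s c hd hs _ (by omega), sub_self]
      · have h0 : p.val ≠ 0 := by omega
        rw [hσv p h0 hl, if_neg (Fin.ne_of_val_ne h0), ← ev_val (kv s c hd hs _) p]
        by_cases hq : q.val = 0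
        · rw [if_pos hq, kv_zero s c hd hs _ p.isLt, if_neg hl]
        · rw [if_neg hq]
          exact (kv_pattern s c hd hs (d + 2 - q.val) (by omega) (by omega)).1 p.val (by omega) (by omega)
  rw [hMp, Matrix.det_permute', Matrix.det_permute, Matrix.det_mul, hdetT] at hdetMp
  have key : ∀ u : ℤˣ, ((u : ℤ) : F) * ((u : ℤ) : F) = 1 := fun u => by
    rcases Int.units_eq_one_or u with h | h <;> simp [h]
  have k1 := key (Equiv.Perm.sign σ)
  have k2 := key (Equiv.Perm.sign (Equiv.neg (Fin (d + 2))))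
  have hcc : c * c⁻¹ = 1 := mul_inv_cancel₀ hc
  set D := (kmat s c hd hs).det with hD
  set P := ∏ p : Fin (d + 2), (if p.val = 0 ∨ p.val = d + 1 then (1 : F) else (-1) ^ p.val) with hP
  set a := ((Equiv.Perm.sign σ : ℤ) : F) with ha
  set b := ((Equiv.Perm.sign (Equiv.neg (Fin (d + 2))) : ℤ) : F) with hb
  have he : esign d F = a * b * P := rfl
  rw [he, pow_succ]
  have h' : b * (a * (-c⁻¹ * D)) = -P * c ^ d := by exact_mod_cast hdetMp
  linear_combination (-(a * b * c)) * h' + (-(b * b * (c * c⁻¹) * D)) * k1 + (-((c * c⁻¹) * D)) * k2 + (-D) * hcc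

/-- With the parameter equal to the sign, `u` is conjugate to `v` in SL. -/
theorem exists_conj (hc : c = esign d F) :
    ∃ g : Matrix.SpecialLinearGroup (Fin (d + 2)) F, g * pairU s c hd hs * g⁻¹ = lowU (d + 2) F := by
  have hne : esign d F ≠ 0 := fun h => by
    have h2 := esign_sq (d := d) (F := F)
    rw [h, mul_zero] at h2
    exact zero_ne_one h2
  set G := (kmat s c hd hs).submatrix id (Fin.revPerm : Equiv.Perm (Fin (d + 2))) with hG
  set R := (Fin.revPerm : Equiv.Perm (Fin (d + 2))).permMatrix F with hR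
  have hdetG : G.det = R.det * esign d F ^ (d + 2) := by
    rw [hG, Matrix.det_permute', det_kmat s c hd hs (hc ▸ hne), hR, Matrix.det_permutation, hc, ← pow_succ']
  have hRne : R.det ≠ 0 := by
    rw [hR, Matrix.det_permutation]
    rcases Int.units_eq_one_or (Equiv.Perm.sign (Fin.revPerm : Equiv.Perm (Fin (d + 2)))) with h | h <;> simp [h]
  have hGu : IsUnit G.det := by
    rw [hdetG, isUnit_iff_ne_zero]
    exact mul_ne_zero hRne (pow_ne_zero _ hne)
  have hR' : (lowU (d + 2) F).1 * R = R * (regU (d + 2) F).1 := by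
    refine Matrix.ext_of_mulVec_single fun j => ?_
    rw [← mulVec_mulVec, ← mulVec_mulVec, hR, Matrix.permMatrix_mulVec, Matrix.permMatrix_mulVec]
    funext i
    simp only [lowU_mulVec, Function.comp_apply, regU_mulVec]
    congr 1
    simp only [Fin.revPerm_apply]
    by_cases h : i.val = 0
    · rw [dif_pos h, dif_neg (by rw [Fin.val_rev]; omega)]
    · have hr : i.rev.val + 1 < d + 2 := by rw [Fin.val_rev]; omega
      rw [dif_neg h, dif_pos hr]
      congr 1
      apply Fin.ext
      simp only [Fin.val_rev]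
      omega
  have hU : (pairU s c hd hs).1 * G = G * (regU (d + 2) F).1 := by
    refine Matrix.ext_of_mulVec_single fun j => ?_
    have hcol : ∀ j, G *ᵥ Pi.single j 1 = kv s c hd hs (d + 1 - j.val) := by
      intro j
      rw [Matrix.mulVec_single_one]
      funext i
      show kv s c hd hs ((Fin.revPerm j).val) i = _
      rw [Fin.revPerm_apply, Fin.val_rev, show d + 2 - (j.val + 1) = d + 1 - j.val by omega]
    have hreg : (regU (d + 2) F).1 *ᵥ Pi.single j 1 =
        Pi.single j 1 + if h : j.val = 0 then 0 else Pi.single ⟨j.val - 1, by omega⟩ 1 := by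
      funext i
      rw [regU_mulVec, Pi.add_apply]
      congr 1
      by_cases hi : i.val + 1 < d + 2
      · rw [dif_pos hi]
        by_cases h : j.val = 0
        · rw [dif_pos h, Pi.zero_apply, Pi.single_apply, if_neg (fun e => by rw [Fin.ext_iff] at e; simp only at e; omega)]
        · rw [dif_neg h, Pi.single_apply, Pi.single_apply]
          simp only [Fin.ext_iff]
          exact if_congr (by omega) rfl rfl
      · rw [dif_neg hi]
        by_cases h : j.val = 0
        · rw [dif_pos h, Pi.zero_apply]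
        · rw [dif_neg h, Pi.single_apply, if_neg (fun e => by rw [Fin.ext_iff] at e; simp only at e; omega)]
    rw [← mulVec_mulVec, ← mulVec_mulVec, hcol, hreg, mulVec_add, hcol]
    have hN : (pairU s c hd hs).1 *ᵥ kv s c hd hs (d + 1 - j.val) =
        kv s c hd hs (d + 1 - j.val) + kv s c hd hs (d + 1 - j.val + 1) := by
      rw [kv_succ, pairN, sub_mulVec, one_mulVec, add_sub_cancel]
    rw [hN]
    congr 1
    by_cases h : j.val = 0
    · rw [dif_pos h, mulVec_zero, h, Nat.sub_zero, kv_top]
    · rw [dif_neg h, hcol]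
      simp only
      rw [show d + 1 - j.val + 1 = d + 1 - (j.val - 1) by omega]
  set Q := esign d F • (R * G⁻¹) with hQ
  have hdetQ : Q.det = 1 := by
    rw [hQ, Matrix.det_smul, Fintype.card_fin, Matrix.det_mul, Matrix.det_nonsing_inv, Ring.inverse_eq_inv', hdetG]
    field_simp
  have hQu : Q * (pairU s c hd hs).1 = (lowU (d + 2) F).1 * Q := by
    have h1 : G⁻¹ * (pairU s c hd hs).1 = (regU (d + 2) F).1 * G⁻¹ := by
      have h2 := congrArg (fun M => G⁻¹ * M * G⁻¹) hU
      simp only [← mul_assoc, Matrix.nonsing_inv_mul G hGu, one_mul] at h2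
      rwa [mul_assoc (G⁻¹ * (pairU s c hd hs).1), Matrix.mul_nonsing_inv G hGu, mul_one] at h2
    rw [hQ, smul_mul_assoc, mul_smul_comm, mul_assoc, h1, ← mul_assoc, ← hR', mul_assoc]
  obtain ⟨q, hq⟩ : ∃ q : Matrix.SpecialLinearGroup (Fin (d + 2)) F, q.1 = Q := ⟨⟨Q, hdetQ⟩, rfl⟩
  refine ⟨q, ?_⟩
  have e : q * pairU s c hd hs = lowU (d + 2) F * q := Subtype.ext (by
    rw [Matrix.SpecialLinearGroup.coe_mul, Matrix.SpecialLinearGroup.coe_mul, hq]
    exact hQu)
  rw [e, mul_inv_cancel_right]

end Krylov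

end Cfsg.Agent.RegGen
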